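import Cfsg.Agent.Lib.ExtraspecialTwo
import Cfsg.Agent.Lib.CharTheory.ExtCriteria
import Cfsg.Agent.Lib.CharTheory.Linear
import Cfsg.Agent.Lib.CharTheory.More
import Cfsg.Agent.Lib.CharTheory.Schur

/-!
Extending the faithful character of an extraspecial 2-group to a group of automorphisms normalising a
fixed-point-free group of odd prime order (for row 4759).
-/

set_option autoImplicit false
set_option linter.unusedSectionVars false
set_option linter.style.haveILetI false

namespace CfsgLib.ExtraTwoExt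

open Cfsg CfsgLib.ExtraTwo CfsgLib.CharTheory
open scoped ComplexConjugate commutatorElement

universe u v w

variable {E : Type u} [Group E] [Finite E] {z : E}

/-- An operator of square one and trace minus the dimension. -/
theorem end_eq_neg_one {V : Type v} [AddCommGroup V] [Module ℂ V] [FiniteDimensional ℂ V]
    (T : Module.End ℂ V) (hT : T * T = 1) (ht : LinearMap.trace ℂ V T = -(Module.finrank ℂ V : ℂ)) : T = -1 := by
  set Q : Module.End ℂ V := (2 : ℂ)⁻¹ • (1 + T) with hQ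
  have hQQ : IsIdempotentElem Q := by
    show Q * Q = Q
    rw [hQ, smul_mul_assoc, mul_smul_comm, smul_smul, add_mul, mul_add, mul_add, one_mul, one_mul, mul_one, hT]
    rw [show (1 : Module.End ℂ V) + T + (T + 1) = (2 : ℂ) • (1 + T) by rw [two_smul]; abel, smul_smul]
    norm_num
  have hp := LinearMap.IsIdempotentElem.isProj_range Q hQQ
  have h0 := hp.trace
  rw [hQ, map_smul, map_add, LinearMap.trace_one, ht, add_neg_cancel, smul_zero] at h0
  have h1 : LinearMap.range Q = ⊥ := Submodule.finrank_eq_zero.mp (Nat.cast_eq_zero.mp h0.symm)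
  rw [LinearMap.range_eq_bot, hQ, smul_eq_zero] at h1
  exact eq_neg_of_add_eq_zero_right (h1.resolve_left (by norm_num))

/-- A central involution with value minus the degree changes the sign. -/
theorem char_neg_mul {G : Type v} [Group G] {χ : G → ℂ} (hχ : IsCharacter G χ) {c : G} (hc : c * c = 1)
    (hv : χ c = -χ 1) (g : G) : χ (c * g) = -χ g := by
  obtain ⟨n, ρ, rfl⟩ := hχ
  have h : ρ c = -1 := by
    refine end_eq_neg_one _ (by rw [← map_mul, hc, map_one]) ?_
    rw [ρ.char_one] at hv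
    exact hv
  show LinearMap.trace ℂ _ (ρ (c * g)) = -LinearMap.trace ℂ _ (ρ g)
  rw [map_mul, h]
  exact (congrArg (LinearMap.trace ℂ (Fin n → ℂ)) (neg_one_mul (ρ g : Module.End ℂ (Fin n → ℂ)))).trans (map_neg _ _)

theorem exists_conj_eq (h : Ext2 E z) {e : E} (he : e ≠ 1 ∧ e ≠ z) : ∃ a, a * e * a⁻¹ = z * e := by
  obtain ⟨a, ha⟩ : ∃ a, a * e ≠ e * a := by
    by_contra hall
    push Not at hall
    rcases (h.center_iff e).mp (Subgroup.mem_center_iff.mpr hall) with e' | e'
    · exact he.1 e'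
    · exact he.2 e'
  refine ⟨a, ?_⟩
  rcases h.comm_cases a e with e' | e'
  · exact absurd (commutatorElement_eq_one_iff_mul_comm.mp e') ha
  · rw [← e', commutatorElement_def]; group

/-- A character with `z ↦ -1` vanishes off the centre. -/
theorem vanish {G : Type v} [Group G] (h : Ext2 E z) (ι : E →* G) {χ : G → ℂ} (hχ : IsCharacter G χ)
    (hz : χ (ι z) = -χ 1) {e : E} (he : e ≠ 1 ∧ e ≠ z) : χ (ι e) = 0 := by
  obtain ⟨a, ha⟩ := exists_conj_eq h he
  have h1 := isClassFunction_char hχ (ι e) (ι a)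
  rw [← map_inv, ← map_mul, ← map_mul, ha, map_mul,
    char_neg_mul hχ (by rw [← map_mul, h.zz, map_one]) hz] at h1
  exact CharZero.neg_eq_self_iff.mp h1

/-- Sums of class values over the group reduce to the centre. -/
theorem sum_eq_two [Fintype E] (h : Ext2 E z) (f : E → ℂ) (hf : ∀ e, e ≠ 1 ∧ e ≠ z → f e = 0) :
    ∑ e, f e = f 1 + f z := by
  classical
  rw [← Finset.sum_subset (Finset.subset_univ ({1, z} : Finset E)) (fun e _ he => hf e (by simpa using he)),
    Finset.sum_pair h.ne.symm]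

/-- The restriction to `E` is irreducible. -/
theorem irr_restrict {G : Type v} [Group G] [Finite G] (h : Ext2 E z) (ι : E →* G) {χ : G → ℂ} (hχ : IsCharacter G χ)
    (hz : χ (ι z) = -χ 1) (hd : 2 * χ 1 ^ 2 = (Nat.card E : ℂ)) : IsIrrCharacter E (fun e => χ (ι e)) := by
  have hc : IsCharacter E (fun e => χ (ι e)) := isCharacter_comp hχ ι
  haveI := Fintype.ofFinite E
  haveI := Fintype.ofFinite G
  refine irr_of_char_norm_one hc ?_
  obtain ⟨d, hd'⟩ := char_one_eq_natCast hχ
  simp only [classInner]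
  rw [sum_eq_two h _ (fun e he => by rw [vanish h ι hχ hz he, zero_mul]), map_one, hz, hd', ← hd, hd']
  simp only [map_neg, Complex.conj_natCast, neg_mul_neg]
  rw [← two_mul, ← pow_two, inv_mul_cancel₀]
  rw [← hd', hd]
  exact Nat.cast_ne_zero.mpr Nat.card_pos.ne'

/-- `θ` extends to the semidirect product with `P`. -/
def Good {P : Type v} [Group P] (z : E) (φ : P →* MulAut E) : Prop :=
  ∃ χ : E ⋊[φ] P → ℂ, IsCharacter (E ⋊[φ] P) χ ∧ χ (SemidirectProduct.inl z) = -χ 1 ∧
    2 * χ 1 ^ 2 = (Nat.card E : ℂ)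

theorem aut_fix_z (h : Ext2 E z) (α : MulAut E) : α z = z := by
  have hc : α z ∈ Subgroup.center E := Subgroup.mem_center_iff.mpr fun g => by
    obtain ⟨g, rfl⟩ := α.surjective g
    rw [← map_mul, ← map_mul, (h.z_comm g).eq]
  exact ((h.center_iff _).mp hc).resolve_left fun e => h.ne (α.injective (e.trans (map_one α).symm))

/-! ### The integer inequality -/

theorem sq_sum_ineq {ι : Type v} [Fintype ι] [DecidableEq ι] (a : ι → ℤ) (hna : ¬ ∀ i j, a i = a j) :
    (Fintype.card ι : ℤ) - 1 ≤ Fintype.card ι * ∑ i, a i ^ 2 - (∑ i, a i) ^ 2 ∧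
    ((Fintype.card ι : ℤ) * ∑ i, a i ^ 2 - (∑ i, a i) ^ 2 ≤ (Fintype.card ι : ℤ) - 1 →
      ∃ (j : ι) (c δ : ℤ), δ ^ 2 = 1 ∧ ∀ i, a i = c + if i = j then δ else 0) := by
  set n : ℤ := (Fintype.card ι : ℤ) with hn
  set X : ℤ := n * ∑ i, a i ^ 2 - (∑ i, a i) ^ 2 with hX
  have hpair : ∑ i, ∑ j, (a i - a j) ^ 2 = 2 * X := by
    simp only [sub_sq, Finset.sum_add_distrib, Finset.sum_sub_distrib, ← Finset.mul_sum, ← Finset.sum_mul,
      Finset.sum_const, Finset.card_univ, nsmul_eq_mul, hX, hn]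
    ring
  push Not at hna
  obtain ⟨i₀, j₀, hij⟩ := hna
  set A : Finset ι := Finset.univ.filter (fun i => a i = a i₀)
  set B : Finset ι := Finset.univ.filter (fun i => a i ≠ a i₀)
  have hAB : A.card + B.card = Fintype.card ι := by
    rw [Finset.card_filter_add_card_filter_not, Finset.card_univ]
  have hA1 : 1 ≤ A.card := Finset.card_pos.mpr ⟨i₀, by simp [A]⟩
  have hB1 : 1 ≤ B.card := Finset.card_pos.mpr ⟨j₀, by simpa [B] using Ne.symm hij⟩
  set Cb : ℤ := ∑ i ∈ B, (a i - a i₀) ^ 2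
  set Db : ℤ := ∑ i ∈ B, ∑ j ∈ B, (a i - a j) ^ 2
  have hsplit : ∑ i, ∑ j, (a i - a j) ^ 2 = 2 * (A.card * Cb) + Db := by
    have e : ∀ f : ι → ℤ, ∑ i, f i = ∑ i ∈ A, f i + ∑ i ∈ B, f i := fun f =>
      (Finset.sum_filter_add_sum_filter_not _ _ _).symm
    rw [e]
    simp only [e (fun j => (a _ - a j) ^ 2), Finset.sum_add_distrib]
    have h1 : ∀ i ∈ A, a i = a i₀ := fun i hi => (Finset.mem_filter.mp hi).2
    have h2 : ∑ i ∈ A, ∑ j ∈ A, (a i - a j) ^ 2 = 0 :=
      Finset.sum_eq_zero fun i hi => Finset.sum_eq_zero fun j hj => by rw [h1 i hi, h1 j hj, sub_self]; norm_num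
    have h3 : ∑ i ∈ A, ∑ j ∈ B, (a i - a j) ^ 2 = A.card * Cb := by
      rw [Finset.sum_congr rfl (fun i hi => Finset.sum_congr rfl fun j _ => show _ = (a j - a i₀) ^ 2 by
        rw [h1 i hi]; ring), Finset.sum_const, nsmul_eq_mul]
    have h4 : ∑ i ∈ B, ∑ j ∈ A, (a i - a j) ^ 2 = A.card * Cb := by
      rw [Finset.sum_comm, Finset.sum_congr rfl (fun j hj => Finset.sum_congr rfl fun i _ => show _ = (a i - a i₀) ^ 2 by
        rw [h1 j hj]), Finset.sum_const, nsmul_eq_mul]
    rw [h2, h3, h4]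
    ring
  have hone : ∀ i ∈ B, 1 ≤ (a i - a i₀) ^ 2 := fun i hi => by
    have : a i - a i₀ ≠ 0 := sub_ne_zero.mpr (Finset.mem_filter.mp hi).2
    have := sq_pos_of_ne_zero this
    omega
  have hCb : (B.card : ℤ) ≤ Cb := by
    simpa using Finset.sum_le_sum hone
  have hDb : 0 ≤ Db := Finset.sum_nonneg fun i _ => Finset.sum_nonneg fun j _ => sq_nonneg _
  have hnAB : n = A.card + B.card := by rw [hn, ← hAB]; push_cast; ring
  have hA : (1 : ℤ) ≤ A.card := by exact_mod_cast hA1
  have hB : (1 : ℤ) ≤ B.card := by exact_mod_cast hB1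
  have hX2 : 2 * X = 2 * (A.card * Cb) + Db := hpair.symm.trans hsplit
  refine ⟨by nlinarith, fun hle => ?_⟩
  have hD0 : Db = 0 := by nlinarith
  have hC0 : Cb = B.card := by nlinarith
  have hAB1 : A.card = 1 ∨ B.card = 1 := by
    by_contra hh
    push Not at hh
    have : (2 : ℤ) ≤ A.card := by omega
    have : (2 : ℤ) ≤ B.card := by omega
    nlinarith
  have hBc : ∀ i ∈ B, a i = a j₀ := fun i hi => by
    have h1 := (Finset.sum_eq_zero_iff_of_nonneg fun i _ => Finset.sum_nonneg fun j _ => sq_nonneg _).mp hD0 i hi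
    have h2 := (Finset.sum_eq_zero_iff_of_nonneg fun j _ => sq_nonneg _).mp h1 j₀ (by simpa [B] using Ne.symm hij)
    exact sub_eq_zero.mp (pow_eq_zero_iff two_ne_zero |>.mp h2)
  have hd : (a j₀ - a i₀) ^ 2 = 1 := by
    have hle' : ∀ i ∈ B, (a i - a i₀) ^ 2 = 1 := fun i hi => by
      have h := (Finset.sum_eq_sum_iff_of_le hone).mp (by simpa using hC0.symm) i hi
      exact h.symm
    exact hle' j₀ (by simpa [B] using Ne.symm hij)
  rcases hAB1 with h1 | h1
  · obtain ⟨w, hw⟩ := Finset.card_eq_one.mp h1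
    refine ⟨w, a j₀, a i₀ - a j₀, by linear_combination hd, fun i => ?_⟩
    by_cases hi : a i = a i₀
    · rw [if_pos (Finset.mem_singleton.mp (hw ▸ (by simp [A, hi] : i ∈ A))), hi]; ring
    · rw [if_neg (fun e => hi (by
        have : i ∈ A := hw ▸ Finset.mem_singleton.mpr e
        exact (Finset.mem_filter.mp this).2)), hBc i (by simp [B, hi]), add_zero]
  · obtain ⟨w, hw⟩ := Finset.card_eq_one.mp h1
    refine ⟨w, a i₀, a j₀ - a i₀, hd, fun i => ?_⟩
    by_cases hi : a i = a i₀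
    · rw [if_neg (fun e => (by
        have : i ∈ B := hw ▸ Finset.mem_singleton.mpr e
        exact (Finset.mem_filter.mp this).2 hi)), hi, add_zero]
    · rw [if_pos (Finset.mem_singleton.mp (hw ▸ (by simp [B, hi] : i ∈ B))), hBc i (by simp [B, hi])]; ring

/-! ### Fourier facts on `ZMod r` -/

section Fourier

variable {r : ℕ} [Fact r.Prime] {ζ : ℂ}

theorem sum_pow_val (hζ : IsPrimitiveRoot ζ r) (i : ZMod r) :
    ∑ s : ZMod r, ζ ^ (s * i).val = if i = 0 then (r : ℂ) else 0 := by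
  split_ifs with hi
  · simp [hi]
  · rw [Fintype.sum_equiv (Equiv.mulRight₀ i hi) (fun s : ZMod r => ζ ^ (s * i).val) (fun s => ζ ^ s.val)
      (fun s => rfl)]
    have h := hζ.geom_sum_eq_zero (Fact.out (p := r.Prime)).one_lt
    rw [← h]
    refine Finset.sum_bij (fun s _ => s.val) (fun s _ => Finset.mem_range.mpr s.val_lt)
      (fun a _ b _ e => ZMod.val_injective r e) (fun b hb => ⟨(b : ZMod r), Finset.mem_univ _,
        ZMod.val_natCast_of_lt (Finset.mem_range.mp hb)⟩) (fun s _ => rfl)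

theorem pow_val_add (hζ : IsPrimitiveRoot ζ r) (a b : ZMod r) : ζ ^ (a + b).val = ζ ^ a.val * ζ ^ b.val := by
  rw [ZMod.val_add, ← pow_eq_pow_mod _ hζ.pow_eq_one, pow_add]

theorem conj_pow_val (hζ : IsPrimitiveRoot ζ r) (a : ZMod r) : conj (ζ ^ a.val) = ζ ^ (-a).val := by
  have h := pow_val_add hζ a (-a)
  rw [add_neg_cancel, ZMod.val_zero, pow_zero] at h
  have hn : ‖ζ ^ a.val‖ = 1 := by
    rw [norm_pow, Complex.norm_eq_one_of_pow_eq_one hζ.pow_eq_one (Fact.out (p := r.Prime)).ne_zero, one_pow]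
  rw [← Complex.inv_eq_conj hn, inv_eq_of_mul_eq_one_right h.symm]

theorem parseval (hζ : IsPrimitiveRoot ζ r) (c : ZMod r → ℂ) :
    ∑ s : ZMod r, (∑ i, c i * ζ ^ (s * i).val) * conj (∑ i, c i * ζ ^ (s * i).val) =
      (r : ℂ) * ∑ i, c i * conj (c i) := by
  simp only [map_sum, map_mul, conj_pow_val hζ, Finset.sum_mul, Finset.mul_sum]
  rw [Finset.sum_comm]
  refine Finset.sum_congr rfl fun i _ => ?_
  rw [Finset.sum_comm, Finset.sum_eq_single i]
  · rw [Finset.sum_congr rfl (fun s _ => show _ = c i * conj (c i) by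
      rw [mul_mul_mul_comm, ← pow_val_add hζ, add_neg_cancel, ZMod.val_zero, pow_zero, mul_one]),
      Finset.sum_const, Finset.card_univ, ZMod.card, nsmul_eq_mul]
  · intro j _ hj
    rw [Finset.sum_congr rfl (fun s _ => show _ = (c j * conj (c i)) * ζ ^ (s * (j - i)).val by
      rw [mul_mul_mul_comm, ← pow_val_add hζ, mul_sub, sub_eq_add_neg]),
      ← Finset.mul_sum, sum_pow_val hζ, if_neg (sub_ne_zero.mpr hj), mul_zero]
  · exact fun h => absurd (Finset.mem_univ i) h

end Fourier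

end CfsgLib.ExtraTwoExt
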