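import Cfsg.Agent.Lib.CharTheory.ExtraTwoExt.Base

/-!
The faithful character of an extraspecial 2-group extends over a 2-group normalising an automorphism of odd
prime order that fixes only the centre.
-/

set_option autoImplicit false
set_option linter.unusedSectionVars false
set_option linter.style.haveILetI false
set_option maxHeartbeats 1000000

namespace CfsgLib.ExtraTwoExt

open Cfsg CfsgLib.ExtraTwo CfsgLib.CharTheory
open scoped ComplexConjugate commutatorElement

universe u v

variable {E : Type u} [Group E] [Finite E] {z : E} {r : ℕ} [hr : Fact r.Prime] {m : MulAut E}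

theorem pow_val_hom (hm : m ^ r = 1) : ∀ a b : ZMod r, m ^ (a + b).val = m ^ a.val * m ^ b.val := fun a b => by
  rw [ZMod.val_add, ← pow_eq_pow_mod _ hm, pow_add]

/-- Powers of `m` indexed by `ZMod r`. -/
def powHom (hm : m ^ r = 1) : Multiplicative (ZMod r) →* MulAut E where
  toFun k := m ^ (Multiplicative.toAdd k).val
  map_one' := by simp
  map_mul' a b := pow_val_hom hm _ _

/-- The combined action. -/
def combHom {P : Type v} [Group P] (φ : P →* MulAut E) (hm : m ^ r = 1) (hc : ∀ p, Commute (φ p) m) :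
    P × Multiplicative (ZMod r) →* MulAut E :=
  φ.noncommCoprod (powHom hm) fun p k => (hc p).pow_right _

theorem combHom_apply {P : Type v} [Group P] (φ : P →* MulAut E) (hm : m ^ r = 1) (hc : ∀ p, Commute (φ p) m)
    (p : P) (s : ZMod r) : combHom φ hm hc (p, Multiplicative.ofAdd s) = φ p * m ^ s.val := rfl

theorem apply_z_pow (h : Ext2 E z) (α : MulAut E) {u : E} (hu : α u = u ∨ α u = z * u) (n : ℕ) :
    (α ^ n) u = u ∨ (α ^ n) u = z * u := by
  induction n with
  | zero => exact Or.inl rfl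
  | succ n ih =>
    rw [pow_succ', MulAut.mul_apply]
    rcases ih with e | e <;> rw [e]
    · exact hu
    · rw [map_mul, aut_fix_z h]
      rcases hu with e' | e' <;> rw [e']
      · exact Or.inr rfl
      · exact Or.inl (by rw [← mul_assoc, h.zz, one_mul])

/-- A fixed point modulo the centre of `φ p m ^ s` lies in the centre. -/
theorem fixed_mod (h : Ext2 E z) (hr2 : r ≠ 2) (hm : m ^ r = 1) (hfix : ∀ e, m e = e → e = 1 ∨ e = z)
    {P : Type v} [Group P] [Finite P] (hP : (Nat.card P).Coprime r) (φ : P →* MulAut E) (hc : ∀ p, Commute (φ p) m)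
    (p : P) {s : ZMod r} (hs : s ≠ 0) {u : E}
    (hu : combHom φ hm hc (p, Multiplicative.ofAdd s) u = u ∨ combHom φ hm hc (p, Multiplicative.ofAdd s) u = z * u) :
    u = 1 ∨ u = z := by
  rw [combHom_apply] at hu
  have h1 := apply_z_pow h _ hu (Nat.card P)
  rw [((hc p).pow_right _).mul_pow, ← map_pow, pow_card_eq_one', map_one, one_mul, ← pow_mul] at h1
  have hcop : Nat.Coprime (s.val * Nat.card P) r := by
    refine Nat.Coprime.mul_left ?_ hP
    refine (hr.out.coprime_iff_not_dvd.mpr fun hd => hs ?_).symm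
    rw [← ZMod.natCast_zmod_val s, (ZMod.natCast_eq_zero_iff _ _).mpr hd]
  obtain ⟨t, ht⟩ := Nat.exists_mul_mod_eq_one_of_coprime hcop hr.out.one_lt
  have h2 := apply_z_pow h _ h1 t
  rw [← pow_mul, pow_eq_pow_mod _ hm, ht.2, pow_one] at h2
  rcases h2 with e | e
  · exact hfix u e
  · exfalso
    have hodd : ∀ k, (m ^ (2 * k + 1)) u = z * u := fun k => by
      induction k with
      | zero => simpa using e
      | succ k ih =>
        rw [show 2 * (k + 1) + 1 = 1 + 1 + (2 * k + 1) by ring, pow_add, MulAut.mul_apply, ih, pow_add, pow_one,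
          MulAut.mul_apply, map_mul, aut_fix_z h, e, ← mul_assoc, h.zz, one_mul, e]
    obtain ⟨k, hk⟩ := hr.out.odd_of_ne_two hr2
    have := hodd k
    rw [← hk, hm, MulAut.one_apply] at this
    exact h.ne (mul_eq_right.mp this.symm)

/-- Every element is a centre element times a twisted commutator. -/
theorem exists_twist (h : Ext2 E z) (g : MulAut E) (hg : ∀ u, g u = u ∨ g u = z * u → u = 1 ∨ u = z) (e : E) :
    ∃ c a : E, (c = 1 ∨ c = z) ∧ e = c * (a * (g a)⁻¹) := by
  set Z := Subgroup.center E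
  let F : E ⧸ Z → E ⧸ Z := fun q => ((q.out * (g q.out)⁻¹ : E) : E ⧸ Z)
  have hF : Function.Injective F := by
    intro q₁ q₂ hq
    set a := q₁.out
    set b := q₂.out
    obtain ⟨u, hu⟩ : ∃ u, a = b * u := ⟨b⁻¹ * a, by group⟩
    have h1 : (b * (g b)⁻¹)⁻¹ * (a * (g a)⁻¹) ∈ Z := QuotientGroup.eq.mp hq.symm
    have h2 : u * (g u)⁻¹ ∈ Z := by
      have h3 := Subgroup.Normal.conj_mem (inferInstance : Z.Normal) _ h1 (g b)⁻¹
      have e3 : (g b)⁻¹ * ((b * (g b)⁻¹)⁻¹ * (a * (g a)⁻¹)) * (g b)⁻¹⁻¹ = u * (g u)⁻¹ := by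
        rw [hu, map_mul]; group
      rwa [e3] at h3
    have h4 : u = 1 ∨ u = z := hg u (by
      rcases (h.center_iff _).mp h2 with e | e
      · exact Or.inl (mul_inv_eq_one.mp e).symm
      · refine Or.inr ?_
        have e2 := mul_inv_eq_iff_eq_mul.mp e
        conv_rhs => rw [e2]
        rw [← mul_assoc, h.zz, one_mul])
    rw [← q₁.out_eq', ← q₂.out_eq', eq_comm, QuotientGroup.eq]
    show b⁻¹ * a ∈ Z
    rw [hu, inv_mul_cancel_left]
    exact (h.center_iff _).mpr h4
  obtain ⟨q, hq⟩ := (Finite.injective_iff_surjective.mp hF) (e : E ⧸ Z)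
  have h1 : (q.out * (g q.out)⁻¹)⁻¹ * e ∈ Z := QuotientGroup.eq.mp hq
  refine ⟨_, q.out, (h.center_iff _).mp h1, ?_⟩
  have h2 := Subgroup.mem_center_iff.mp h1 (q.out * (g q.out)⁻¹)
  rw [← h2]
  group

section Centralised

variable {P : Type v} [Group P] [Finite P] (φ : P →* MulAut E)

local notation "G₀[" hm "," hc "]" => E ⋊[combHom φ hm hc] (P × Multiplicative (ZMod r))

/-- An irreducible character with value `δ` on every `(p, s)`, `s ≠ 0`. -/
theorem exists_psi (h : Ext2 E z) (hr2 : r ≠ 2) (hm : m ^ r = 1) (hfix : ∀ e, m e = e → e = 1 ∨ e = z)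
    (hP : (Nat.card P).Coprime r) (hc : ∀ p, Commute (φ p) m) :
    ∃ Ψ : G₀[hm, hc] → ℂ, IsIrrCharacter (G₀[hm, hc]) Ψ ∧ Ψ (SemidirectProduct.inl z) = -Ψ 1 ∧
      2 * Ψ 1 ^ 2 = (Nat.card E : ℂ) ∧
      ∃ δ : ℂ, δ * conj δ = 1 ∧ ∀ (p : P) (s : ZMod r), s ≠ 0 →
        Ψ (SemidirectProduct.inr (p, Multiplicative.ofAdd s)) = δ := by
  classical
  haveI : Finite (G₀[hm, hc]) := Finite.of_equiv _ SemidirectProduct.equivProd.symm
  letI : Fintype (G₀[hm, hc]) := Fintype.ofFinite _
  haveI := Fintype.ofFinite E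
  haveI := Fintype.ofFinite P
  let il : E →* (G₀[hm, hc]) := SemidirectProduct.inl
  let ir : P × Multiplicative (ZMod r) →* (G₀[hm, hc]) := SemidirectProduct.inr
  let el : P → ZMod r → (G₀[hm, hc]) := fun p s => ir (p, Multiplicative.ofAdd s)
  have hzc : ∀ g : (G₀[hm, hc]), il z * g = g * il z := fun g => by
    ext
    · simp [il, aut_fix_z h, (h.z_comm g.left).eq]
    all_goals simp [il]
  have hzz : il z * il z = 1 := by rw [← map_mul, h.zz, map_one]
  have hzchar : ∀ χ : (G₀[hm, hc]) → ℂ, IsIrrCharacter (G₀[hm, hc]) χ →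
      (∀ g, χ (il z * g) = χ g) ∨ χ (il z) = -χ 1 := by
    intro χ hχ
    have key : ∀ y, χ (il z * y) = χ (il z) * χ y / χ 1 := fun y => by
      have := sum_conj_mul_char hχ (il z) y
      rw [Finset.sum_congr rfl (fun a _ => show χ (a * il z * a⁻¹ * y) = χ (il z * y) by
        rw [← hzc a, mul_inv_cancel_right]), Finset.sum_const, Finset.card_univ, nsmul_eq_mul,
        ← Nat.card_eq_fintype_card, mul_div_assoc] at this
      exact mul_left_cancel₀ (Nat.cast_ne_zero.mpr Nat.card_pos.ne') this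
    have h1 := key (il z)
    rw [hzz, eq_div_iff (irr_ne_zero hχ)] at h1
    rcases mul_self_eq_mul_self_iff.mp h1.symm with e | e
    · exact Or.inl fun g => by rw [key g, e, mul_div_cancel_left₀ _ (irr_ne_zero hχ)]
    · exact Or.inr e
  -- column orthogonality
  have hconj : ∀ p, IsConj (el p 1) (el 1 1) ↔ p = 1 := by
    refine fun p => ⟨fun hh => ?_, fun e => e ▸ IsConj.refl _⟩
    have := ((MonoidHom.fst P (Multiplicative (ZMod r))).comp SemidirectProduct.rightHom).map_isConj hh
    simpa [el, ir, isConj_one_left] using this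
  have hnot : ∀ p, ¬ IsConj (il z * el p 1) (el 1 1) := by
    intro p hh
    have hp : p = 1 := by
      have := ((MonoidHom.fst P (Multiplicative (ZMod r))).comp SemidirectProduct.rightHom).map_isConj hh
      simpa [el, ir, il, isConj_one_left] using this
    subst hp
    have h1 : el 1 1 ^ r = 1 := by
      show ir _ ^ r = 1
      rw [← map_pow, Prod.pow_mk, one_pow, ← ofAdd_nsmul]
      simp only [nsmul_one, ZMod.natCast_self, ofAdd_zero]
      exact map_one ir
    obtain ⟨k, hk⟩ := hr.out.odd_of_ne_two hr2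
    obtain ⟨u, hu⟩ := hh
    have h2 := (SemiconjBy.pow_right hu r).eq
    rw [h1, one_mul, (show Commute (il z) (el 1 1) from hzc _).mul_pow, h1, mul_one] at h2
    have h4 : il z ^ r = il z := by
      have h5 : il z ^ (2 * k + 1) = il z := by rw [pow_succ, pow_mul, pow_two, hzz, one_pow, one_mul]
      rwa [← hk] at h5
    rw [h4] at h2
    have h3 : il z = 1 := mul_eq_left.mp h2
    exact h.ne (SemidirectProduct.inl_injective (h3.trans (map_one il).symm))
  have hcol : ∑ χ : IrrCharacter (G₀[hm, hc]), (∑ p : P, ((χ : (G₀[hm, hc]) → ℂ) (el p 1) - (χ : (G₀[hm, hc]) → ℂ) (il z * el p 1))) *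
      conj ((χ : (G₀[hm, hc]) → ℂ) (el 1 1)) = (Nat.card (Subgroup.centralizer ({el 1 1} : Set (G₀[hm, hc]))) : ℂ) := by
    simp only [Finset.sum_mul, sub_mul]
    rw [Finset.sum_comm]
    simp only [Finset.sum_sub_distrib, sum_irr_mul_conj, if_neg (hnot _), sub_zero, Finset.sum_const_zero, hconj]
    simp
  obtain ⟨⟨Ψ, hΨ⟩, hne⟩ : ∃ χ : IrrCharacter (G₀[hm, hc]),
      ∑ p : P, ((χ : (G₀[hm, hc]) → ℂ) (el p 1) - (χ : (G₀[hm, hc]) → ℂ) (il z * el p 1)) ≠ 0 := by
    by_contra hno
    push Not at hno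
    rw [Finset.sum_eq_zero (fun χ _ => by rw [hno χ, zero_mul])] at hcol
    exact Nat.card_pos.ne' (Nat.cast_eq_zero.mp hcol.symm)
  have hΨc := isCharacter_of_irr hΨ
  have hz1 : Ψ (il z) = -Ψ 1 := (hzchar Ψ hΨ).resolve_left fun hh =>
    hne (Finset.sum_eq_zero fun p _ => show Ψ _ - Ψ _ = 0 by rw [hh, sub_self])
  have hneg := char_neg_mul hΨc hzz hz1
  have hsum0 : ∑ p : P, Ψ (el p 1) ≠ 0 := fun e => hne (by
    simp only [hneg, sub_neg_eq_add, Finset.sum_add_distrib]
    rw [e, add_zero])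
  -- values on the cosets
  have hcos : ∀ (e : E) (p : P) (s : ZMod r), s ≠ 0 → Ψ (il e * el p s) = Ψ (el p s) ∨ Ψ (il e * el p s) = -Ψ (el p s) := by
    intro e p s hs
    obtain ⟨c, a, hca, rfl⟩ := exists_twist h (combHom φ hm hc (p, Multiplicative.ofAdd s))
      (fun u hu => fixed_mod h hr2 hm hfix hP φ hc p hs hu) e
    have e1 : il (c * (a * (combHom φ hm hc (p, Multiplicative.ofAdd s) a)⁻¹)) * el p s
        = il c * (il a * el p s * (il a)⁻¹) := by
      show il _ * ir _ = il c * (il a * ir _ * (il a)⁻¹)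
      rw [← map_inv il a, map_mul, map_mul, mul_assoc (il c), mul_assoc (il a), mul_assoc (il a)]
      congr 2
      ext <;> simp [il, ir]
    rw [e1]
    rcases hca with rfl | rfl
    · left; rw [map_one, one_mul]; exact isClassFunction_char hΨc _ _
    · right; rw [hneg]; exact congrArg Neg.neg (isClassFunction_char hΨc _ _)
  -- multiplicities
  set ζ := Complex.exp (2 * Real.pi * Complex.I / r) with hζdef
  have hζ : IsPrimitiveRoot ζ r := Complex.isPrimitiveRoot_exp r hr.out.ne_zero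
  let c : ZMod r → ℂ := fun s => (Nat.card P : ℂ)⁻¹ * ∑ p : P, Ψ (el p s)
  have hcP : (Nat.card P : ℂ) ≠ 0 := Nat.cast_ne_zero.mpr Nat.card_pos.ne'
  let lam : ZMod r → (Multiplicative (ZMod r) →* ℂˣ) := fun j =>
    (MonoidHom.toHomUnits
      { toFun := fun k : Multiplicative (ZMod r) => ζ ^ (Multiplicative.toAdd k * j).val
        map_one' := by simp
        map_mul' := fun a b => by rw [toAdd_mul, add_mul, pow_val_add hζ] })
  have hlam : ∀ j s, ((lam j (Multiplicative.ofAdd s) : ℂˣ) : ℂ) = ζ ^ (s * j).val := fun _ _ => rfl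
  have ha : ∀ j, ∃ n : ℕ, (r : ℂ)⁻¹ * ∑ s, c s * ζ ^ (-(s * j)).val = n := by
    intro j
    obtain ⟨n, hn⟩ := classInner_char_nat (G := P × Multiplicative (ZMod r)) (isCharacter_comp hΨc ir)
      (isCharacter_of_irr (isIrrCharacter_linear ((lam j).comp (MonoidHom.snd P _))))
    refine ⟨n, ?_⟩
    rw [← hn]
    simp only [classInner, Fintype.sum_prod_type, Nat.card_prod, Nat.card_zmod, Nat.cast_mul]
    rw [show Nat.card (Multiplicative (ZMod r)) = r from (Nat.card_congr Multiplicative.toAdd).trans (Nat.card_zmod r),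
      Finset.sum_comm, mul_inv, mul_comm (Nat.card P : ℂ)⁻¹, mul_assoc, Finset.mul_sum (a := (Nat.card P : ℂ)⁻¹)]
    congr 1
    refine Fintype.sum_equiv Multiplicative.ofAdd _ _ fun s => ?_
    show c s * _ = _
    simp only [MonoidHom.coe_comp, Function.comp_apply, MonoidHom.coe_snd]
    rw [hlam, conj_pow_val hζ, ← Finset.sum_mul, ← mul_assoc]
  choose a ha using ha
  have hca : ∀ s, c s = ∑ i, (a i : ℂ) * ζ ^ (s * i).val := fun s => by
    simp only [← ha, mul_assoc, Finset.sum_mul]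
    rw [← Finset.mul_sum, Finset.sum_comm, Finset.sum_eq_single s]
    · rw [Finset.sum_congr rfl (fun j _ => show _ = c s by
        rw [← pow_val_add hζ, neg_add_cancel, ZMod.val_zero, pow_zero, mul_one]), Finset.sum_const, Finset.card_univ,
        ZMod.card, nsmul_eq_mul, inv_mul_cancel_left₀ (Nat.cast_ne_zero.mpr hr.out.ne_zero)]
    · intro t _ ht
      rw [Finset.sum_congr rfl (fun j _ => show _ = c t * ζ ^ (j * (s - t)).val by
        rw [← pow_val_add hζ]; ring_nf), ← Finset.mul_sum, sum_pow_val hζ, if_neg (sub_ne_zero.mpr (Ne.symm ht)),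
        mul_zero]
    · exact fun hh => absurd (Finset.mem_univ s) hh
  have hna : ¬ ∀ i j, (a i : ℤ) = a j := by
    intro hh
    refine hsum0 ?_
    have h1 : c 1 = 0 := by
      rw [hca, Finset.sum_congr rfl (fun i _ => show _ = (a 0 : ℂ) * ζ ^ (i * 1).val by
        rw [one_mul, mul_one, show a i = a 0 from Nat.cast_injective (hh i 0)]), ← Finset.mul_sum, sum_pow_val hζ,
        if_neg one_ne_zero, mul_zero]
    exact (mul_eq_zero.mp h1).resolve_left (inv_ne_zero hcP)
  obtain ⟨hge, heq⟩ := sq_sum_ineq (fun i => (a i : ℤ)) hna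
  set X : ℤ := (Fintype.card (ZMod r) : ℤ) * ∑ i, (a i : ℤ) ^ 2 - (∑ i, (a i : ℤ)) ^ 2 with hX
  have hX' : ∑ s ∈ Finset.univ.erase (0 : ZMod r), Complex.normSq (c s) = (X : ℝ) := by
    have h1 := parseval hζ (fun i => (a i : ℂ))
    simp only [← hca, Complex.mul_conj] at h1
    rw [← Finset.add_sum_erase _ _ (Finset.mem_univ (0 : ZMod r))] at h1
    simp only [Complex.normSq_natCast] at h1
    have h0 : c 0 = ((∑ i, a i : ℕ) : ℂ) := by simp [hca]
    rw [h0, Complex.normSq_natCast] at h1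
    have h2 : ((∑ i, a i : ℕ) : ℝ) * (∑ i, a i : ℕ) + ∑ s ∈ Finset.univ.erase (0 : ZMod r), Complex.normSq (c s) =
        (r : ℝ) * ∑ i, ((a i : ℝ) * a i) := by exact_mod_cast h1
    rw [hX, ZMod.card]
    push_cast at h2 ⊢
    simp only [sq]
    linarith
  -- the norm of Ψ
  let f : P → ZMod r → ℝ := fun p s => Complex.normSq (Ψ (el p s))
  have hbound : ∑ s ∈ Finset.univ.erase (0 : ZMod r), ∑ p, f p s ≤ ((r : ℝ) - 1) * Nat.card P := by
    let ι0 : E ⋊[φ] P →* (G₀[hm, hc]) := SemidirectProduct.map (MonoidHom.id E) (MonoidHom.inl P _) fun p => by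
      ext x
      simp [combHom, powHom]
    haveI : Finite (E ⋊[φ] P) := Finite.of_equiv _ SemidirectProduct.equivProd.symm
    letI : Fintype (E ⋊[φ] P) := Fintype.ofFinite _
    obtain ⟨n, hn⟩ := classInner_char_nat (isCharacter_comp hΨc ι0) (isCharacter_comp hΨc ι0)
    have hsumG : ∀ F : (G₀[hm, hc]) → ℝ, ∑ g, F g = ∑ s : ZMod r, ∑ p : P, ∑ e : E, F (il e * el p s) := fun F => by
      rw [← Equiv.sum_comp SemidirectProduct.equivProd.symm, Fintype.sum_prod_type, Finset.sum_comm,
        Fintype.sum_prod_type, Finset.sum_comm]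
      refine Fintype.sum_equiv Multiplicative.toAdd _ _ fun s => ?_
      refine Finset.sum_congr rfl fun p _ => Finset.sum_congr rfl fun e _ => ?_
      congr 1
      ext <;> simp [il, el, ir]
    have htot := sum_mul_conj_irr hΨ
    simp only [Complex.mul_conj] at htot
    have htot' : ∑ g, Complex.normSq (Ψ g) = (Nat.card (G₀[hm, hc]) : ℝ) := by exact_mod_cast htot
    rw [hsumG, ← Finset.add_sum_erase _ _ (Finset.mem_univ (0 : ZMod r))] at htot'
    have hA : (Nat.card (E ⋊[φ] P) : ℝ) ≤ ∑ p : P, ∑ e : E, Complex.normSq (Ψ (il e * el p 0)) := by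
      have h1 : ((n : ℝ) * Nat.card (E ⋊[φ] P) : ℝ) = ∑ x, Complex.normSq (Ψ (ι0 x)) := by
        have := hn
        simp only [classInner, Complex.mul_conj] at this
        rw [inv_mul_eq_iff_eq_mul₀ (Nat.cast_ne_zero.mpr Nat.card_pos.ne')] at this
        rw [mul_comm]
        exact_mod_cast this.symm
      have h2 : ∑ x, Complex.normSq (Ψ (ι0 x)) = ∑ p : P, ∑ e : E, Complex.normSq (Ψ (il e * el p 0)) := by
        rw [Finset.sum_comm, ← Fintype.sum_prod_type']
        refine Fintype.sum_equiv SemidirectProduct.equivProd _ _ fun x => ?_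
        congr 2
        ext <;> simp [il, el, ir, ι0]
      have hn0 : n ≠ 0 := by
        rintro rfl
        rw [Nat.cast_zero, zero_mul] at h1
        have h3 := (Finset.sum_eq_zero_iff_of_nonneg fun x _ => Complex.normSq_nonneg _).mp h1.symm 1 (Finset.mem_univ _)
        rw [map_one, Complex.normSq_eq_zero] at h3
        exact irr_ne_zero hΨ h3
      rw [← h2, ← h1]
      exact le_mul_of_one_le_left (Nat.cast_nonneg _) (by exact_mod_cast Nat.one_le_iff_ne_zero.mpr hn0)
    rw [Finset.sum_congr rfl (fun s hs => Finset.sum_congr rfl fun p _ => Finset.sum_congr rfl fun e _ =>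
      show _ = f p s by
        rcases hcos e p s (Finset.ne_of_mem_erase hs) with e1 | e1 <;> rw [e1]
        exact Complex.normSq_neg _)] at htot'
    simp only [Finset.sum_const, Finset.card_univ, nsmul_eq_mul, ← Finset.mul_sum, SemidirectProduct.card,
      Nat.card_prod, ← Nat.card_eq_fintype_card] at htot' hA
    rw [show Nat.card (Multiplicative (ZMod r)) = r from (Nat.card_congr Multiplicative.toAdd).trans (Nat.card_zmod r)] at htot'
    push_cast at htot' hA
    have hEpos : (0 : ℝ) < Nat.card E := Nat.cast_pos.mpr Nat.card_pos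
    nlinarith
  have hvar : ∀ s, ∑ p, Complex.normSq (Ψ (el p s) - c s) = ∑ p, f p s - Nat.card P * Complex.normSq (c s) := by
    intro s
    have hs : ∑ p, Ψ (el p s) = Nat.card P * c s := (mul_inv_cancel_left₀ hcP _).symm
    simp only [Complex.normSq_sub, Finset.sum_add_distrib, Finset.sum_sub_distrib, ← Finset.mul_sum,
      ← Complex.re_sum, ← Finset.sum_mul, hs, mul_assoc, Complex.mul_conj, Finset.sum_const, Finset.card_univ,
      nsmul_eq_mul, ← Nat.card_eq_fintype_card, f]
    simp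
    ring
  have hXle : X ≤ (Fintype.card (ZMod r) : ℤ) - 1 := by
    rw [ZMod.card]
    have h1 : (X : ℝ) * Nat.card P ≤ ((r : ℝ) - 1) * Nat.card P := by
      rw [← hX', Finset.sum_mul]
      refine le_trans (Finset.sum_le_sum fun s _ => ?_) hbound
      have h2 : 0 ≤ ∑ p, Complex.normSq (Ψ (el p s) - c s) := Finset.sum_nonneg fun p _ => Complex.normSq_nonneg _
      rw [hvar] at h2
      linarith
    have h3 := le_of_mul_le_mul_right h1 (Nat.cast_pos.mpr Nat.card_pos)
    exact_mod_cast h3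
  have hXeq : (X : ℝ) = (r : ℝ) - 1 := by
    have : X = (r : ℤ) - 1 := by
      rw [← ZMod.card r]
      exact le_antisymm hXle hge
    rw [this]; simp
  have hconst : ∀ p s, s ≠ 0 → Ψ (el p s) = c s := by
    intro p s hs
    have h1 : ∑ s ∈ Finset.univ.erase (0 : ZMod r), ∑ p, Complex.normSq (Ψ (el p s) - c s) ≤ 0 := by
      simp only [hvar, Finset.sum_sub_distrib, ← Finset.mul_sum, hX', hXeq]
      linarith
    have hnn : ∀ s : ZMod r, 0 ≤ ∑ p, Complex.normSq (Ψ (el p s) - c s) := fun s =>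
      Finset.sum_nonneg fun p _ => Complex.normSq_nonneg _
    have h2 := (Finset.sum_eq_zero_iff_of_nonneg fun s _ => hnn s).mp
      (le_antisymm h1 (Finset.sum_nonneg fun s _ => hnn s)) s (Finset.mem_erase.mpr ⟨hs, Finset.mem_univ _⟩)
    have h3 := (Finset.sum_eq_zero_iff_of_nonneg fun p _ => Complex.normSq_nonneg _).mp h2 p (Finset.mem_univ _)
    exact sub_eq_zero.mp (Complex.normSq_eq_zero.mp h3)
  obtain ⟨j₀, k₀, d₀, hd₀, hj⟩ := heq hXle
  have hcs : ∀ s, s ≠ 0 → c s = (d₀ : ℂ) * ζ ^ (s * j₀).val := by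
    intro s hs
    rw [hca]
    have : ∀ i, (a i : ℂ) = k₀ + if i = j₀ then (d₀ : ℂ) else 0 := fun i => by
      have := congrArg (fun t : ℤ => (t : ℂ)) (hj i)
      simpa [apply_ite] using this
    simp only [this, add_mul, Finset.sum_add_distrib, ← Finset.mul_sum, ite_mul, zero_mul, Finset.sum_ite_eq',
      Finset.mem_univ, if_true]
    rw [Finset.sum_congr rfl (fun i _ => show ζ ^ (s * i).val = ζ ^ (i * s).val by rw [mul_comm]), sum_pow_val hζ,
      if_neg hs, mul_zero, zero_add]
  -- twist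
  let μ : (G₀[hm, hc]) →* ℂˣ := ((lam j₀)⁻¹.comp (MonoidHom.snd P _)).comp SemidirectProduct.rightHom
  have hμc : ∀ g, ((μ g : ℂˣ) : ℂ) * conj ((μ g : ℂˣ) : ℂ) = 1 := fun g => by
    obtain ⟨s, hs⟩ := Multiplicative.ofAdd.surjective (SemidirectProduct.rightHom g).2
    simp only [μ, MonoidHom.coe_comp, Function.comp_apply, MonoidHom.coe_snd, MonoidHom.inv_apply, ← hs,
      Units.val_inv_eq_inv_val, hlam, map_inv₀, conj_pow_val hζ]
    rw [← mul_inv, ← pow_val_add hζ, add_neg_cancel, ZMod.val_zero, pow_zero, inv_one]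
  let Φ : (G₀[hm, hc]) → ℂ := Ψ * fun g => ((μ g : ℂˣ) : ℂ)
  have hΦc : IsCharacter (G₀[hm, hc]) Φ := isCharacter_mul hΨc (isCharacter_of_irr (isIrrCharacter_linear μ))
  have hΦi : IsIrrCharacter (G₀[hm, hc]) Φ := by
    refine irr_of_char_norm_one hΦc ?_
    rw [← classInner_irr_self hΨ]
    simp only [classInner, Φ, Pi.mul_apply]
    congr 1
    exact Finset.sum_congr rfl fun g _ => by rw [map_mul, mul_mul_mul_comm, hμc, mul_one]
  have hΦ1 : Φ 1 = Ψ 1 := by simp [Φ]
  have hΦz : Φ (il z) = -Φ 1 := by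
    simp only [Φ, Pi.mul_apply, hz1]
    simp [μ, il]
  have hΦel : ∀ p s, s ≠ 0 → Φ (el p s) = d₀ := fun p s hs => by
    simp only [Φ, Pi.mul_apply, μ, el, ir, MonoidHom.coe_comp, Function.comp_apply, SemidirectProduct.rightHom_inr,
      MonoidHom.coe_snd, MonoidHom.inv_apply, Units.val_inv_eq_inv_val, hlam]
    rw [show Ψ (SemidirectProduct.inr (p, Multiplicative.ofAdd s)) = c s from hconst p s hs, hcs s hs, mul_assoc,
      mul_inv_cancel₀ (pow_ne_zero _ (hζ.ne_zero hr.out.ne_zero)), mul_one]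
  have hdd : (d₀ : ℂ) * conj (d₀ : ℂ) = 1 := by
    rw [map_intCast, ← pow_two]; exact_mod_cast hd₀
  refine ⟨Φ, hΦi, hΦz, ?_, d₀, hdd, hΦel⟩
  -- the degree
  have hkey := sum_conj_mul_char hΦi (el 1 1) (el 1 1)⁻¹
  rw [char_apply_inv hΦc, hΦel 1 1 one_ne_zero, hdd] at hkey
  have hm1 : ∀ u, combHom φ hm hc ((1 : P), Multiplicative.ofAdd (1 : ZMod r)) u = m u := fun u => by
    rw [combHom_apply, map_one, one_mul, ZMod.val_one, pow_one]
  have hterm : ∀ (e : E) (q : P × Multiplicative (ZMod r)), Φ ((il e * ir q) * el 1 1 * (il e * ir q)⁻¹ * (el 1 1)⁻¹) =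
      if e = 1 ∨ e = z then Φ 1 else 0 := by
    intro e q
    have hq : Commute (ir q) (el 1 1) := by
      refine Commute.map ?_ ir
      exact Prod.ext (by simp) (mul_comm _ _)
    have e1 : (il e * ir q) * el 1 1 * (il e * ir q)⁻¹ * (el 1 1)⁻¹ = il (e * (m e)⁻¹) := by
      rw [mul_assoc (il e), hq.eq, mul_inv_rev, show il e * (el 1 1 * ir q) * ((ir q)⁻¹ * (il e)⁻¹) * (el 1 1)⁻¹ =
        il e * (el 1 1 * (il e)⁻¹ * (el 1 1)⁻¹) by group, map_mul, map_inv]
      congr 1
      rw [← map_inv il e, ← map_inv il (m e), ← hm1]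
      simp only [il, el, ir, SemidirectProduct.inl_aut, map_inv]
      group
    rw [e1]
    split_ifs with he
    · rcases he with rfl | rfl
      · simp
      · rw [aut_fix_z h, mul_inv_cancel, map_one]
    · refine vanish h il hΦc hΦz ⟨fun e2 => he ?_, fun e2 => he ?_⟩
      · exact hfix e (mul_inv_eq_one.mp e2).symm
      · refine fixed_mod h hr2 hm hfix hP φ hc 1 (s := 1) one_ne_zero (Or.inr ?_)
        have e3 := mul_inv_eq_iff_eq_mul.mp e2
        rw [hm1]
        conv_rhs => rw [e3]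
        rw [← mul_assoc, h.zz, one_mul]
  rw [← Equiv.sum_comp SemidirectProduct.equivProd.symm, Fintype.sum_prod_type] at hkey
  rw [Finset.sum_congr rfl (fun e _ => Finset.sum_congr rfl fun q _ => show _ = if e = 1 ∨ e = z then Φ 1 else 0 by
    rw [← hterm e q]
    congr 1
    have : (SemidirectProduct.equivProd.symm (e, q) : (G₀[hm, hc])) = il e * ir q := by ext <;> simp [il, ir]
    rw [this])] at hkey
  simp only [Finset.sum_const, Finset.card_univ, nsmul_eq_mul, ← Finset.mul_sum] at hkey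
  rw [sum_eq_two h _ (fun e he => if_neg (by simpa [not_or] using he)), if_pos (Or.inl rfl), if_pos (Or.inr rfl),
    SemidirectProduct.card, ← Nat.card_eq_fintype_card, Nat.cast_mul,
    eq_div_iff (irr_ne_zero hΦi)] at hkey
  refine mul_left_cancel₀ (Nat.cast_ne_zero.mpr (Nat.card_pos (α := P × Multiplicative (ZMod r))).ne') ?_
  linear_combination hkey

end Centralised

end CfsgLib.ExtraTwoExt
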