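import Cfsg.Agent.Lib.CharTheory.ExtraTwoExt.Pieces

/-!
Fixed points of an elementary abelian group of odd exponent on an extraspecial 2-group.
-/

set_option autoImplicit false
set_option linter.unusedSectionVars false
set_option linter.style.haveILetI false
set_option maxHeartbeats 800000

namespace CfsgLib.ExtraTwoExt

open Cfsg CfsgLib.ExtraTwo

universe u

variable {E : Type u} [Group E] [Finite E] {z : E}

/-- The automorphisms fixing an element. -/
def fixerOf (e : E) : Subgroup (MulAut E) where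
  carrier := {t | t e = e}
  one_mem' := rfl
  mul_mem' := fun {a b} (ha : a e = e) (hb : b e = e) => show (a * b) e = e by rw [MulAut.mul_apply, hb, ha]
  inv_mem' := fun {a} (ha : a e = e) => show a⁻¹ e = e by
    conv_lhs => rw [← ha]
    exact MulAut.inv_apply_self _ _ _

theorem mem_fixedSub_sup {T T' : Subgroup (MulAut E)} {e : E} (h : e ∈ fixedSub T) (h' : e ∈ fixedSub T') :
    e ∈ fixedSub (T ⊔ T') :=
  fun t ht => (sup_le (fun s hs => h s hs) (fun s hs => h' s hs) : T ⊔ T' ≤ fixerOf e) ht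

theorem mem_fixedSub_zpowers {c : MulAut E} {e : E} (h : c e = e) : e ∈ fixedSub (Subgroup.zpowers c) :=
  fun _t ht => (Subgroup.zpowers_le.mpr (show c ∈ fixerOf e from h) : Subgroup.zpowers c ≤ fixerOf e) ht

theorem fixedSub_anti {T T' : Subgroup (MulAut E)} (hTT : T ≤ T') : fixedSub T' ≤ fixedSub T :=
  fun _ he t ht => he t (hTT ht)

theorem center_le_fixedSub (h : Ext2 E z) (T : Subgroup (MulAut E)) : Subgroup.center E ≤ fixedSub T := fun e he => by
  rcases (h.center_iff e).mp he with rfl | rfl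
  exacts [one_mem _, z_mem_fixedSub h T]

theorem eq_bot_of_fixedSub_top {T : Subgroup (MulAut E)} (h : fixedSub T = ⊤) : T = ⊥ :=
  (Subgroup.eq_bot_iff_forall T).mpr fun t ht => MulEquiv.ext fun e =>
    (h.symm ▸ Subgroup.mem_top e : e ∈ fixedSub T) t ht

/-- Commutative elementary group data. -/
structure Elem (r : ℕ) (X : Subgroup (MulAut E)) : Prop where
  comm : ∀ a ∈ X, ∀ b ∈ X, a * b = b * a
  pow : ∀ a ∈ X, a ^ r = 1

/-- One step of generation by fixed points. -/
theorem fixedSub_le_step (h : Ext2 E z) {r : ℕ} [hr : Fact r.Prime] (hr2 : r ≠ 2) {X : Subgroup (MulAut E)}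
    (hX : Elem r X) {Y : Subgroup (MulAut E)} (hYX : Y ≤ X) {D : Subgroup E} (hDc : Subgroup.center E ≤ D)
    (hD : ∀ c ∈ X, c ∉ Y → fixedSub (Y ⊔ Subgroup.zpowers c) ≤ D)
    {b : MulAut E} (hb : b ∈ X) (hbY : b ∉ Y) {a : MulAut E} (ha : a ∈ X) (haY : a ∉ Y ⊔ Subgroup.zpowers b) :
    fixedSub Y ≤ D := by
  classical
  let Z := Subgroup.center E
  letI : CommGroup (E ⧸ Z) := { (inferInstance : Group (E ⧸ Z)) with mul_comm := quot_comm h }
  have hodd : Odd r := hr.out.odd_of_ne_two hr2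
  have hord : ∀ t ∈ X, Odd (orderOf t) := fun t ht => hodd.of_dvd_nat (orderOf_dvd_of_pow_eq_one (hX.pow t ht))
  intro v hv
  let f : ZMod r → ZMod r → E ⧸ Z := fun k j => qAut (a ^ k.val * b ^ j.val) (v : E ⧸ Z)
  have hpow : ∀ t ∈ X, ∀ i j : ZMod r, t ^ (i + j).val = t ^ i.val * t ^ j.val := fun t ht i j => by
    rw [ZMod.val_add, ← pow_eq_pow_mod _ (hX.pow t ht), pow_add]
  have hnorm : ∀ N : E ⧸ Z, ∀ c ∈ X, c ∉ Y → (∀ y ∈ Y, qAut y N = N) → qAut c N = N → N ∈ D.map (QuotientGroup.mk' Z) := by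
    intro N c hc hcY hy hcN
    obtain ⟨w, rfl⟩ := QuotientGroup.mk_surjective N
    refine ⟨w, hD c hc hcY (mem_fixedSub_sup ?_ (mem_fixedSub_zpowers ?_)), rfl⟩
    · exact fun y hy' => lift_fixed h (hord y (hYX hy')) (hy y hy')
    · exact lift_fixed h (hord c hc) hcN
  have hY : ∀ y ∈ Y, ∀ t ∈ X, qAut y (qAut t (v : E ⧸ Z)) = qAut t (v : E ⧸ Z) := fun y hy t ht => by
    rw [← MulAut.mul_apply, ← map_mul, hX.comm y (hYX hy) t ht, map_mul, MulAut.mul_apply]
    exact congrArg _ (congrArg QuotientGroup.mk (hv y hy))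
  have hfX : ∀ k j : ZMod r, a ^ k.val * b ^ j.val ∈ X := fun k j => X.mul_mem (X.pow_mem ha _) (X.pow_mem hb _)
  set Dq := D.map (QuotientGroup.mk' Z)
  have hb1 : b ^ (1 : ZMod r).val = b := by rw [ZMod.val_one, pow_one]
  have hNb : ∏ j, f 0 j ∈ Dq := hnorm _ b hb hbY
    (fun y hy => by rw [map_prod]; exact Finset.prod_congr rfl fun j _ => hY y hy _ (hfX 0 j))
    (by
      rw [map_prod]
      refine Fintype.prod_equiv (Equiv.addLeft (1 : ZMod r)) _ _ fun j => ?_
      simp only [f, Equiv.coe_addLeft, ← MulAut.mul_apply, ← map_mul, hpow b hb, ZMod.val_zero, pow_zero, one_mul, hb1])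
  have hNab : ∏ k, ∏ j, f k j ∈ Dq := hnorm _ b hb hbY
    (fun y hy => by
      simp only [map_prod]
      exact Finset.prod_congr rfl fun k _ => Finset.prod_congr rfl fun j _ => hY y hy _ (hfX k j))
    (by
      simp only [map_prod]
      refine Finset.prod_congr rfl fun k _ => Fintype.prod_equiv (Equiv.addLeft (1 : ZMod r)) _ _ fun j => ?_
      simp only [f, Equiv.coe_addLeft, ← MulAut.mul_apply, ← map_mul, hpow b hb, hb1]
      rw [← mul_assoc, hX.comm b hb _ (X.pow_mem ha _), mul_assoc])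
  have hNi : ∀ i : ZMod r, ∏ k, f k (i * k) ∈ Dq := fun i => by
    refine hnorm _ (a * b ^ i.val) (X.mul_mem ha (X.pow_mem hb _)) (fun hc => haY ?_)
      (fun y hy => by rw [map_prod]; exact Finset.prod_congr rfl fun k _ => hY y hy _ (hfX k _)) ?_
    · have := (Y ⊔ Subgroup.zpowers b).mul_mem (Subgroup.mem_sup_left hc)
        (Subgroup.inv_mem _ (Subgroup.mem_sup_right (Subgroup.pow_mem _ (Subgroup.mem_zpowers b) i.val)))
      rwa [mul_inv_cancel_right] at this
    · rw [map_prod]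
      refine Fintype.prod_equiv (Equiv.addLeft (1 : ZMod r)) _ _ fun k => ?_
      simp only [f, Equiv.coe_addLeft, ← MulAut.mul_apply, ← map_mul, mul_add, mul_one, hpow b hb, hpow a ha,
        ZMod.val_one, pow_one]
      congr 2
      rw [mul_assoc a, ← mul_assoc (b ^ i.val), hX.comm _ (X.pow_mem hb i.val) _ (X.pow_mem ha k.val)]
      simp only [mul_assoc]
  have key : (∏ i, ∏ k, f k (i * k)) * ∏ j, f 0 j = (v : E ⧸ Z) * ∏ k, ∏ j, f k j := by
    rw [Finset.prod_comm, ← Finset.mul_prod_erase _ _ (Finset.mem_univ (0 : ZMod r)),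
      ← Finset.mul_prod_erase Finset.univ (fun k => ∏ j, f k j) (Finset.mem_univ (0 : ZMod r))]
    rw [Finset.prod_congr rfl (fun k hk => (Fintype.prod_equiv (Equiv.mulRight₀ k (Finset.ne_of_mem_erase hk))
      (fun i => f k (i * k)) (fun j => f k j) fun i => rfl))]
    have h0 : (∏ i : ZMod r, f 0 (i * 0)) = (v : E ⧸ Z) := by
      simp only [f, mul_zero, ZMod.val_zero, pow_zero, mul_one, Finset.prod_const, Finset.card_univ, ZMod.card,
        map_one, MulAut.one_apply]
      exact quot_pow_odd h _ hodd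
    rw [h0, mul_right_comm, mul_assoc]
  have hvD : (v : E ⧸ Z) ∈ Dq := by
    rw [eq_mul_inv_of_mul_eq key.symm]
    exact Dq.mul_mem (Dq.mul_mem (Subgroup.prod_mem _ fun i _ => hNi i) hNb) (Dq.inv_mem hNab)
  obtain ⟨w, hw, hwv⟩ := hvD
  have : w⁻¹ * v ∈ Z := QuotientGroup.eq.mp hwv
  simpa using D.mul_mem hw (hDc this)

end CfsgLib.ExtraTwoExt
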