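import Cfsg.Agent.Lib.CharTheory.ExtraTwoExt.Generation
import Cfsg.Agent.Lib.Elementary
import Cfsg.Agent.S0205

/-!
The faithful character of an extraspecial 2-group extends over a 2-group normalising a group of odd order
that fixes only the centre.
-/

set_option autoImplicit false
set_option linter.unusedSectionVars false
set_option linter.style.haveILetI false
set_option maxHeartbeats 800000

namespace CfsgLib.ExtraTwoExt

open Cfsg CfsgLib.ExtraTwo CfsgLib.CharTheory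
open scoped ComplexConjugate commutatorElement Pointwise

universe u v

/-- The induction hypothesis. -/
def IH (n : ℕ) : Prop :=
  ∀ (E : Type u) [Group E] [Finite E] (z : E), Ext2 E z → Nat.card E < n →
    ∀ (P : Type v) [Group P] [Finite P], IsPGroup 2 P → ∀ (φ : P →* MulAut E) (M : Subgroup (MulAut E)),
      Odd (Nat.card M) → (∀ p, ∀ m ∈ M, φ p * m * (φ p)⁻¹ ∈ M) → fixedSub M ≤ Subgroup.center E →
      Subgroup.center E ≠ ⊤ → Good z φ

variable {E : Type u} [Group E] [Finite E] {z : E}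

theorem good_piece (ih : IH.{u, v} (Nat.card E)) (h : Ext2 E z) {P : Type v} [Group P] [Finite P] (hP : IsPGroup 2 P)
    (φ : P →* MulAut E) {A B : Subgroup E} (s : Split z A B) (hA : ∀ p, φ p ∈ autStab A)
    (M : Subgroup (MulAut E)) (hM : Odd (Nat.card M)) (hn : ∀ p, ∀ m ∈ M, φ p * m * (φ p)⁻¹ ∈ M)
    (hfix : fixedSub M ≤ Subgroup.center E) (hMA : M ≤ autStab A)
    (hAn : ¬ A ≤ Subgroup.center E) (hBn : ¬ B ≤ Subgroup.center E) :
    Good (E := A) ⟨z, s.zA⟩ (resAct A φ hA) := by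
  have hlt : Nat.card A < Nat.card E := by
    refine lt_of_le_of_ne (Subgroup.card_le_card_group A) fun e => hBn fun b hb => ?_
    rw [Subgroup.card_eq_iff_eq_top] at e
    exact Subgroup.mem_center_iff.mpr fun g => s.comm g (e ▸ Subgroup.mem_top g) b hb
  refine ih A ⟨z, s.zA⟩ (s.ext2 h) hlt P hP _ ((M.subgroupOf (autStab A)).map (resHom A)) ?_ ?_ ?_ ?_
  · exact hM.of_dvd_nat ((Subgroup.card_map_dvd _ _).trans
      (Nat.card_congr (Subgroup.subgroupOfEquivOfLe hMA).toEquiv).dvd)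
  · rintro p _ ⟨m, hm, rfl⟩
    exact ⟨⟨φ p, hA p⟩ * m * ⟨φ p, hA p⟩⁻¹, hn p _ hm, by
      rw [map_mul, map_mul, map_inv]
      rfl⟩
  · intro a ha
    rw [(s.ext2 h).center_iff]
    refine ((h.center_iff (a : E)).mp (hfix fun m hm => ?_)).imp Subtype.ext Subtype.ext
    exact congrArg Subtype.val (ha _ ⟨⟨m, hMA hm⟩, hm, rfl⟩)
  · intro e
    refine hAn fun a ha => ?_
    have h1 : (⟨a, ha⟩ : A) ∈ Subgroup.center A := e ▸ Subgroup.mem_top _
    rw [(s.ext2 h).center_iff] at h1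
    exact (h.center_iff a).mpr (h1.imp (congrArg Subtype.val) (congrArg Subtype.val))

theorem good_split (ih : IH.{u, v} (Nat.card E)) (h : Ext2 E z) {P : Type v} [Group P] [Finite P] (hP : IsPGroup 2 P)
    (φ : P →* MulAut E) {A B : Subgroup E} (s : Split z A B) (hA : ∀ p, φ p ∈ autStab A) (hB : ∀ p, φ p ∈ autStab B)
    (M : Subgroup (MulAut E)) (hM : Odd (Nat.card M)) (hn : ∀ p, ∀ m ∈ M, φ p * m * (φ p)⁻¹ ∈ M)
    (hfix : fixedSub M ≤ Subgroup.center E) (hMA : M ≤ autStab A) (hMB : M ≤ autStab B)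
    (hAn : ¬ A ≤ Subgroup.center E) (hBn : ¬ B ≤ Subgroup.center E) : Good z φ := by
  obtain ⟨χA, hcA, hzA, hdA⟩ := good_piece ih h hP φ s hA M hM hn hfix hMA hAn hBn
  obtain ⟨χB, hcB, hzB, hdB⟩ := good_piece ih h hP φ s.symm hB M hM hn hfix hMB hBn hAn
  obtain ⟨χ, h1, h2, h3, -⟩ := exists_prod_char h φ s hA hB hcA hzA hdA hcB hzB hdB
  exact ⟨χ, h1, h2, h3⟩

theorem main : ∀ (n : ℕ) (E : Type u) [Group E] [Finite E] (z : E), Ext2 E z → Nat.card E = n →
    ∀ (P : Type v) [Group P] [Finite P], IsPGroup 2 P → ∀ (φ : P →* MulAut E) (M : Subgroup (MulAut E)),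
      Odd (Nat.card M) → (∀ p, ∀ m ∈ M, φ p * m * (φ p)⁻¹ ∈ M) → fixedSub M ≤ Subgroup.center E →
      Subgroup.center E ≠ ⊤ → Good z φ := by
  intro n
  induction n using Nat.strong_induction_on with
  | _ n ihn =>
  intro E _ _ z h hcard P _ _ hP φ M hM hn hfix hnc
  classical
  have ih : IH.{u, v} (Nat.card E) := fun E' _ _ z' h' hlt => ihn _ (hcard ▸ hlt) E' z' h' rfl
  haveI : Finite (MulAut E) := Finite.of_injective (fun α : MulAut E => (α : E → E)) DFunLike.coe_injective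
  haveI : Finite (Subgroup (MulAut E)) := Finite.of_injective SetLike.coe SetLike.coe_injective
  set C := Subgroup.center E
  have hMbot : M ≠ ⊥ := by
    rintro rfl
    exact hnc (eq_top_iff.mpr fun e _ => hfix fun t ht => by rw [Subgroup.mem_bot.mp ht, MulAut.one_apply])
  -- a minimal normalised subgroup
  let Ok : Subgroup (MulAut E) → Prop := fun Y =>
    (∀ p, ∀ y ∈ Y, φ p * y * (φ p)⁻¹ ∈ Y) ∧ (∀ m ∈ M, ∀ y ∈ Y, m * y * m⁻¹ ∈ Y)
  obtain ⟨X, ⟨hXM, hXb, hXn, hXM'⟩, hmin⟩ := Set.Finite.exists_minimal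
    (s := {Y : Subgroup (MulAut E) | Y ≤ M ∧ Y ≠ ⊥ ∧ Ok Y}) (Set.toFinite _)
    ⟨M, le_rfl, hMbot, hn, fun m hm y hy => M.mul_mem (M.mul_mem hm hy) (M.inv_mem hm)⟩
  have hXodd : Odd (Nat.card X) := hM.of_dvd_nat (Subgroup.card_dvd_of_le hXM)
  have hXsub : ∀ Y ≤ X, Ok Y → Y = ⊥ ∨ Y = X := fun Y hY hok => by
    by_cases hb : Y = ⊥
    · exact Or.inl hb
    · exact Or.inr (le_antisymm hY (hmin ⟨hY.trans hXM, hb, hok⟩ hY))
  -- commutative
  have hcomm : ∀ a ∈ X, ∀ b ∈ X, a * b = b * a := by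
    haveI : Group.IsSolvable X := Cfsg.Agent.S0205.result hXodd
    haveI : Nontrivial X := (Subgroup.nontrivial_iff_ne_bot X).mpr hXb
    have hlt : commutator X < ⊤ := IsSolvable.commutator_lt_top_of_nontrivial _
    have hle : ⁅X, X⁆ ≤ X := Subgroup.commutator_le.mpr fun a ha b hb => by
      rw [commutatorElement_def]
      exact X.mul_mem (X.mul_mem (X.mul_mem ha hb) (X.inv_mem ha)) (X.inv_mem hb)
    have hconj : ∀ g : MulAut E, (∀ y ∈ X, g * y * g⁻¹ ∈ X) → ∀ y ∈ ⁅X, X⁆, g * y * g⁻¹ ∈ ⁅X, X⁆ := by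
      intro g hg y hy
      have h1 : (⁅X, X⁆).map (MulAut.conj g).toMonoidHom ≤ ⁅X, X⁆ := by
        rw [Subgroup.map_commutator]
        exact Subgroup.commutator_mono (Subgroup.map_le_iff_le_comap.mpr fun x hx => hg x hx)
          (Subgroup.map_le_iff_le_comap.mpr fun x hx => hg x hx)
      exact h1 ⟨y, hy, rfl⟩
    rcases hXsub ⁅X, X⁆ hle ⟨fun p => hconj _ (hXn p), fun m hm => hconj _ (hXM' m hm)⟩ with e | e
    · exact fun a ha b hb => commutatorElement_eq_one_iff_mul_comm.mp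
        (Subgroup.mem_bot.mp (e ▸ Subgroup.commutator_mem_commutator ha hb))
    · refine absurd ?_ hlt.ne
      apply Subgroup.map_injective X.subtype_injective
      rw [Subgroup.map_subtype_commutator, ← MonoidHom.range_eq_map, Subgroup.range_subtype]
      exact e
  -- elementary
  obtain ⟨r, hr, hrd⟩ := Nat.exists_prime_and_dvd (n := Nat.card X)
    (fun e => hXb (Subgroup.eq_bot_of_card_eq X e))
  haveI : Fact r.Prime := ⟨hr⟩
  have hr2 : r ≠ 2 := fun e => Nat.not_odd_iff_even.mpr (even_iff_two_dvd.mpr (e ▸ hrd)) hXodd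
  have hX : Elem r X := by
    let R : Subgroup (MulAut E) :=
      { carrier := {x | x ∈ X ∧ x ^ r = 1}
        one_mem' := ⟨X.one_mem, one_pow r⟩
        mul_mem' := fun {a b} ha hb => ⟨X.mul_mem ha.1 hb.1, by
          rw [(show Commute a b from hcomm a ha.1 b hb.1).mul_pow, ha.2, hb.2, one_mul]⟩
        inv_mem' := fun {a} ha => ⟨X.inv_mem ha.1, by rw [inv_pow, ha.2, inv_one]⟩ }
    have hRc : ∀ g : MulAut E, (∀ y ∈ X, g * y * g⁻¹ ∈ X) → ∀ y ∈ R, g * y * g⁻¹ ∈ R := fun g hg y hy =>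
      ⟨hg y hy.1, by rw [conj_pow, hy.2, mul_one, mul_inv_cancel]⟩
    rcases hXsub R (fun x hx => hx.1) ⟨fun p => hRc _ (hXn p), fun m hm => hRc _ (hXM' m hm)⟩ with e | e
    · obtain ⟨x, hx⟩ := exists_prime_orderOf_dvd_card' r hrd
      have h1 : (x : MulAut E) ∈ R := ⟨x.2, by rw [← hx, ← Subgroup.orderOf_coe, pow_orderOf_eq_one]⟩
      rw [e, Subgroup.mem_bot] at h1
      rw [← Subgroup.orderOf_coe, h1, orderOf_one] at hx
      exact absurd hx.symm hr.ne_one
    · exact ⟨hcomm, fun a ha => (e.symm ▸ ha : a ∈ R).2⟩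
  have hzC : z ∈ C := (h.center_iff z).mpr (Or.inr rfl)
  by_cases hXfix : fixedSub X ≤ C
  swap
  · -- fixed points of `X` split off
    set A := fixedSub X
    set B := Subgroup.centralizer (A : Set E)
    have hstab : ∀ g : MulAut E, (∀ y ∈ X, g⁻¹ * y * g ∈ X) → g ∈ autStab A := fun g hg =>
      mem_autStab fun a ha y hy => by
        have h1 : (g⁻¹ * y * g) a = a := ha _ (hg y hy)
        rw [MulAut.mul_apply, MulAut.mul_apply] at h1
        simpa using congrArg g h1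
    have hstabB : ∀ g : MulAut E, g ∈ autStab A → g ∈ autStab B := fun g hg =>
      mem_autStab fun b hb => Subgroup.mem_centralizer_iff.mpr fun a ha => by
        have ha' : g⁻¹ a ∈ A := ((autStab A).inv_mem hg a).mpr ha
        have h1 := congrArg g (Subgroup.mem_centralizer_iff.mp hb _ ha')
        simpa using h1
    have hφA : ∀ p, φ p ∈ autStab A := fun p => hstab _ fun y hy => by simpa using hXn p⁻¹ y hy
    have hMA : M ≤ autStab A := fun m hm => hstab _ fun y hy => by simpa using hXM' m⁻¹ (M.inv_mem hm) y hy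
    have hint : ∀ u, u ∈ A → u ∈ B → u = 1 ∨ u = z := fun u hu hu' =>
      (h.center_iff u).mp (Subgroup.mem_center_iff.mpr fun g => (comm_of_fixed h hXodd (W := ⊤)
        (fun _ _ _ _ => Subgroup.mem_top _) hu
        (fun w _ hw => (Subgroup.mem_centralizer_iff.mp hu' w hw).symm) (Subgroup.mem_top g)).symm.eq)
    have hsup : A ⊔ B = ⊤ := by
      have hc := h.card_mul_card_centralizer (z_mem_fixedSub h X)
      let m : A × B →* E := MonoidHom.noncommCoprod A.subtype B.subtype fun a b =>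
        Subgroup.mem_centralizer_iff.mp b.2 a a.2
      have hrange : m.range ≤ A ⊔ B := by
        rintro _ ⟨⟨a, b⟩, rfl⟩
        exact (A ⊔ B).mul_mem (Subgroup.mem_sup_left a.2) (Subgroup.mem_sup_right b.2)
      have hker : Nat.card m.ker ≤ 2 := by
        rw [← h.card_center]
        refine Nat.card_le_card_of_injective (fun x => (⟨((x : A × B).1 : E), ?_⟩ : Subgroup.center E)) ?_
        · have hx : ((x : A × B).1 : E) * ((x : A × B).2 : E) = 1 := x.2
          refine (h.center_iff _).mpr (hint _ (x : A × B).1.2 ?_)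
          rw [eq_inv_of_mul_eq_one_left hx]
          exact B.inv_mem (x : A × B).2.2
        · rintro ⟨⟨a, b⟩, hx⟩ ⟨⟨a', b'⟩, hy⟩ e
          have e1 : (a : E) = (a' : E) := congrArg (fun w : Subgroup.center E => (w : E)) e
          have hx' : (a : E) * b = 1 := hx
          have hy' : (a' : E) * b' = 1 := hy
          have e2 : (b : E) = b' := by
            rw [eq_inv_of_mul_eq_one_right hx', eq_inv_of_mul_eq_one_right hy', e1]
          simp only [Subtype.mk.injEq, Prod.mk.injEq]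
          exact ⟨Subtype.ext e1, Subtype.ext e2⟩
      have h1 : Nat.card (A × B) = Nat.card m.range * Nat.card m.ker := by
        rw [Subgroup.card_eq_card_quotient_mul_card_subgroup m.ker,
          Nat.card_congr (QuotientGroup.quotientKerEquivRange m).toEquiv]
      rw [Nat.card_prod, hc] at h1
      refine Subgroup.eq_top_of_le_card _ (le_trans ?_ (Subgroup.card_le_of_le hrange))
      nlinarith
    refine good_split ih h hP φ
      ⟨fun a ha b hb => Subgroup.mem_centralizer_iff.mp hb a ha, hsup, z_mem_fixedSub h X,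
        Subgroup.mem_centralizer_iff.mpr fun a _ => (h.z_comm a).eq⟩
      hφA (fun p => hstabB _ (hφA p)) M hM hn hfix hMA (fun m hm => hstabB _ (hMA hm)) hXfix fun hB => hXb ?_
    have hA : A = ⊤ := by
      rw [eq_top_iff, ← hsup]
      exact sup_le le_rfl (hB.trans (center_le_fixedSub h X))
    exact eq_bot_of_fixedSub_top hA
  -- the maximal subgroups with non-central fixed points
  let Hs : Set (Subgroup (MulAut E)) :=
    {Y | Y ≤ X ∧ ¬ fixedSub Y ≤ C ∧ ∀ Y', Y < Y' → Y' ≤ X → fixedSub Y' ≤ C}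
  have hHs : ∀ Y ≤ X, ¬ fixedSub Y ≤ C → ∃ Y' ∈ Hs, Y ≤ Y' := by
    intro Y hY hYn
    obtain ⟨Y', ⟨h1, h2, h3⟩, hmax⟩ := Set.Finite.exists_maximal
      (s := {Y' : Subgroup (MulAut E) | Y ≤ Y' ∧ Y' ≤ X ∧ ¬ fixedSub Y' ≤ C}) (Set.toFinite _) ⟨Y, le_rfl, hY, hYn⟩
    refine ⟨Y', ⟨h2, h3, fun Y'' hlt hle => ?_⟩, h1⟩
    by_contra hn'
    exact hlt.not_ge (hmax ⟨h1.trans hlt.le, hle, hn'⟩ hlt.le)
  let Aof : Set (Subgroup (MulAut E)) → Subgroup E := fun S => C ⊔ ⨆ Y ∈ S, fixedSub Y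
  have hAof : ∀ S, ∀ Y ∈ S, fixedSub Y ≤ Aof S := fun S Y hY =>
    le_trans (le_iSup₂ (f := fun Y (_ : Y ∈ S) => fixedSub Y) Y hY) le_sup_right
  have hD : ∀ Y ≤ X, fixedSub Y ≤ Aof Hs := by
    by_contra hnot
    push Not at hnot
    obtain ⟨Y, ⟨hYX, hYn⟩, hmax⟩ := Set.Finite.exists_maximal
      (s := {Y : Subgroup (MulAut E) | Y ≤ X ∧ ¬ fixedSub Y ≤ Aof Hs}) (Set.toFinite _) hnot
    have hYC : ¬ fixedSub Y ≤ C := fun hh => hYn (hh.trans le_sup_left)
    obtain ⟨Y', hlt, hY'X, hY'n⟩ : ∃ Y', Y < Y' ∧ Y' ≤ X ∧ ¬ fixedSub Y' ≤ C := by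
      by_contra hno
      exact hYn (hAof Hs Y ⟨hYX, hYC, fun Y' h1 h2 => not_not.mp fun h3 => hno ⟨Y', h1, h2, h3⟩⟩)
    obtain ⟨b, hbY', hbY⟩ := SetLike.exists_of_lt hlt
    obtain ⟨a, ha, haY⟩ : ∃ a ∈ X, a ∉ Y ⊔ Subgroup.zpowers b := by
      by_contra hno
      push Not at hno
      exact hY'n ((fixedSub_anti (show X ≤ Y' from
        fun x hx => (sup_le hlt.le (Subgroup.zpowers_le.mpr hbY') : _ ≤ Y') (hno x hx))).trans hXfix)
    refine hYn (fixedSub_le_step h hr2 hX hYX le_sup_left (fun c hc hcY => ?_) (hY'X hbY') hbY ha haY)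
    by_contra hc'
    exact hcY (hmax ⟨sup_le hYX (Subgroup.zpowers_le.mpr hc), hc'⟩ le_sup_left
      (Subgroup.mem_sup_right (Subgroup.mem_zpowers c)))
  have hbot : fixedSub (⊥ : Subgroup (MulAut E)) = ⊤ :=
    eq_top_iff.mpr fun e _ t ht => by rw [Subgroup.mem_bot.mp ht, MulAut.one_apply]
  have hDtop : Aof Hs = ⊤ := eq_top_iff.mpr (hbot ▸ hD ⊥ bot_le)
  obtain ⟨H, hH, -⟩ := hHs ⊥ bot_le (by rw [hbot]; exact fun e => hnc (eq_top_iff.mpr e))
  by_cases hone : ∀ Y ∈ Hs, Y = H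
  · -- cyclic
    have hH1 : fixedSub H = ⊤ := by
      rw [eq_top_iff, ← hDtop]
      exact sup_le (center_le_fixedSub h H) (iSup₂_le fun Y hY => by rw [hone Y hY])
    have hHb : H = ⊥ := eq_bot_of_fixedSub_top hH1
    have hsmall : ∀ Y ≤ X, Y ≠ ⊥ → fixedSub Y ≤ C := fun Y hY hYb => by
      by_contra hYn
      obtain ⟨Y', hY', hle⟩ := hHs Y hY hYn
      rw [hone Y' hY', hHb] at hle
      exact hYb (le_bot_iff.mp hle)
    obtain ⟨m, hm, hm1⟩ := (Subgroup.bot_or_exists_ne_one X).resolve_left hXb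
    have hcyc : ∀ x ∈ X, x ∈ Subgroup.zpowers m := by
      by_contra hno
      push Not at hno
      obtain ⟨a, ha, haY⟩ := hno
      refine hnc (eq_top_iff.mpr (hbot ▸ fixedSub_le_step h hr2 hX bot_le le_rfl (fun c hc hcY => ?_) hm ?_ ha ?_))
      · refine hsmall _ (sup_le bot_le (Subgroup.zpowers_le.mpr hc)) fun e => hcY ?_
        exact e ▸ Subgroup.mem_sup_right (Subgroup.mem_zpowers c)
      · exact fun e => hm1 (Subgroup.mem_bot.mp e)
      · rwa [bot_sup_eq]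
    refine good_of_normalised h hr2 (hX.pow m hm) hm1 (fun e he => (h.center_iff e).mp ?_) hP φ fun p => ?_
    · exact hXfix (fun x hx => mem_fixedSub_zpowers he x (hcyc x hx))
    · obtain ⟨k, hk⟩ := ((isOfFinOrder_of_finite m).mem_zpowers_iff_mem_range_orderOf.mp
        (hcyc _ (hXn p m hm))) |> Finset.mem_image.mp |> fun ⟨k, _, hk⟩ => (⟨k, hk⟩ : ∃ k, m ^ k = _)
      exact ⟨k, hk.symm⟩
  push Not at hone
  obtain ⟨H', hH', hne⟩ := hone
  -- the pieces
  have hCinv : ∀ (g : MulAut E), ∀ e ∈ C, g e ∈ C := fun g e he => by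
    rcases (h.center_iff e).mp he with rfl | rfl
    · rw [map_one]; exact one_mem _
    · rw [aut_fix_z h]; exact hzC
  have hcommF : ∀ Y ∈ Hs, ∀ Y' ∈ Hs, Y ≠ Y' → ∀ a ∈ fixedSub Y, ∀ b ∈ fixedSub Y', Commute a b := by
    intro Y hY Y' hY' hne a ha b hb
    refine comm_of_fixed h (hXodd.of_dvd_nat (Subgroup.card_dvd_of_le hY.1)) (W := fixedSub Y') ?_ ha ?_ hb
    · intro t ht w hw y hy
      rw [← MulAut.mul_apply, hcomm y (hY'.1 hy) t (hY.1 ht), MulAut.mul_apply, hw y hy]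
    · intro w hw hwY
      have hlt : Y' < Y ⊔ Y' := lt_of_le_of_ne le_sup_right fun e => by
        have hle : Y ≤ Y' := e ▸ le_sup_left
        exact hY'.2.1 (hY.2.2 Y' (lt_of_le_of_ne hle hne) hY'.1)
      have hwC := hY'.2.2 _ hlt (sup_le hY.1 hY'.1) (mem_fixedSub_sup hwY hw)
      exact Subgroup.mem_center_iff.mp hwC a
  have hsplit : ∀ S T : Set (Subgroup (MulAut E)), S ⊆ Hs → T ⊆ Hs → Hs ⊆ S ∪ T → Disjoint S T →
      Split z (Aof S) (Aof T) := by
    intro S T hS hT hcov hdis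
    have hle : Aof T ≤ Subgroup.centralizer (Aof S : Set E) := by
      rw [Subgroup.le_centralizer_iff]
      refine sup_le ?_ (iSup₂_le fun Y hY => ?_)
      · exact fun e he => Subgroup.mem_centralizer_iff.mpr fun g _ => Subgroup.mem_center_iff.mp he g
      · rw [Subgroup.le_centralizer_iff]
        refine sup_le ?_ (iSup₂_le fun Y' hY' => ?_)
        · exact fun e he => Subgroup.mem_centralizer_iff.mpr fun g _ => Subgroup.mem_center_iff.mp he g
        · exact fun b hb => Subgroup.mem_centralizer_iff.mpr fun a ha =>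
            (hcommF Y (hS hY) Y' (hT hY') (fun e => Set.disjoint_left.mp hdis hY (e ▸ hY')) a ha b hb).eq
    refine ⟨fun a ha b hb => Subgroup.mem_centralizer_iff.mp (hle hb) a ha, eq_top_iff.mpr ?_,
      le_sup_left (α := Subgroup E) hzC, le_sup_left (α := Subgroup E) hzC⟩
    rw [← hDtop]
    refine sup_le (le_trans le_sup_left le_sup_left) (iSup₂_le fun Y hY => ?_)
    rcases hcov hY with hh | hh
    exacts [(hAof S Y hh).trans le_sup_left, (hAof T Y hh).trans le_sup_right]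
  have hnot : ∀ S : Set (Subgroup (MulAut E)), S ⊆ Hs → ∀ Y ∈ S, ¬ Aof S ≤ C := fun S hS Y hY hle =>
    (hS hY).2.1 ((hAof S Y hY).trans hle)
  have hmapA : ∀ (g : MulAut E) (S S' : Set (Subgroup (MulAut E))),
      (∀ Y ∈ S, ∃ Y' ∈ S', ∀ e ∈ fixedSub Y, g e ∈ fixedSub Y') → ∀ e ∈ Aof S, g e ∈ Aof S' := by
    intro g S S' hg
    have : Aof S ≤ (Aof S').comap g.toMonoidHom := by
      refine sup_le (fun e he => le_sup_left (α := Subgroup E) (hCinv g e he)) (iSup₂_le fun Y hY e he => ?_)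
      obtain ⟨Y', hY', h1⟩ := hg Y hY
      exact hAof S' Y' hY' (h1 e he)
    exact fun e he => this he
  have hXA : ∀ S, S ⊆ Hs → X ≤ autStab (Aof S) := fun S hS x hx => mem_autStab (hmapA x S S fun Y hY =>
    ⟨Y, hY, fun e he y hy => by rw [← MulAut.mul_apply, hcomm y ((hS hY).1 hy) x hx, MulAut.mul_apply, he y hy]⟩)
  -- the action on the maximal subgroups
  let act : P → Subgroup (MulAut E) → Subgroup (MulAut E) := fun p Y => Y.map (MulAut.conj (φ p)).toMonoidHom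
  have hact1 : ∀ Y, act 1 Y = Y := fun Y => by
    show Y.map _ = Y
    rw [map_one, map_one]; exact Subgroup.map_id Y
  have hactm : ∀ p q Y, act (p * q) Y = act p (act q Y) := fun p q Y => by
    show Y.map _ = (Y.map _).map _
    rw [Subgroup.map_map, map_mul, map_mul]
    rfl
  have hacte : ∀ p Y, ∀ e ∈ fixedSub Y, φ p e ∈ fixedSub (act p Y) := by
    rintro p Y e he _ ⟨y, hy, rfl⟩
    simp [he y hy]
  have hactX : ∀ p Y, Y ≤ X → act p Y ≤ X := fun p Y hY => by
    rintro _ ⟨y, hy, rfl⟩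
    exact hXn p y (hY hy)
  have hactC : ∀ p Y, fixedSub Y ≤ C → fixedSub (act p Y) ≤ C := fun p Y hY e he => by
    have h1 := hacte p⁻¹ _ e he
    rw [← hactm, inv_mul_cancel, hact1, map_inv] at h1
    have h2 := hCinv (φ p) _ (hY h1)
    rwa [MulAut.apply_inv_self] at h2
  have hactH : ∀ p, ∀ Y ∈ Hs, act p Y ∈ Hs := fun p Y hY => by
    refine ⟨hactX p Y hY.1, fun hh => hY.2.1 ?_, fun Y' hlt hle => ?_⟩
    · have := hactC p⁻¹ _ hh
      rwa [← hactm, inv_mul_cancel, hact1] at this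
    · have e1 : act p (act p⁻¹ Y') = Y' := by rw [← hactm, mul_inv_cancel, hact1]
      rw [← e1]
      refine hactC p _ (hY.2.2 _ (lt_of_le_of_ne ?_ fun e => hlt.ne ?_) (hactX p⁻¹ Y' hle))
      · rw [show Y = act p⁻¹ (act p Y) by rw [← hactm, inv_mul_cancel, hact1]]
        exact Subgroup.map_mono hlt.le
      · rw [e, e1]
  have hφA : ∀ (p : P) (S : Set (Subgroup (MulAut E))), (∀ Y ∈ S, act p Y ∈ S) → φ p ∈ autStab (Aof S) :=
    fun p S hS => mem_autStab (hmapA _ S S fun Y hY => ⟨_, hS Y hY, hacte p Y⟩)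
  by_cases htrans : ∀ Y ∈ Hs, ∃ p, act p H = Y
  swap
  · -- two invariant pieces
    push Not at htrans
    obtain ⟨Y0, hY0, hY0n⟩ := htrans
    let O : Set (Subgroup (MulAut E)) := {Y | ∃ p, act p H = Y}
    have hOH : O ⊆ Hs := by rintro _ ⟨p, rfl⟩; exact hactH p H hH
    have hOi : ∀ p, ∀ Y ∈ O, act p Y ∈ O := by rintro p _ ⟨q, rfl⟩; exact ⟨p * q, hactm p q H⟩
    have hTi : ∀ p, ∀ Y ∈ Hs \ O, act p Y ∈ Hs \ O := fun p Y hY => ⟨hactH p Y hY.1, fun hh => hY.2 (by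
      have := hOi p⁻¹ _ hh
      rwa [← hactm, inv_mul_cancel, hact1] at this)⟩
    exact good_split ih h hP φ
      (hsplit O (Hs \ O) hOH Set.sdiff_subset (by rw [Set.union_sdiff_self]; exact Set.subset_union_right)
        disjoint_sdiff_self_right)
      (fun p => hφA p O (hOi p)) (fun p => hφA p (Hs \ O) (hTi p)) X hXodd hXn hXfix
      (hXA O hOH) (hXA _ Set.sdiff_subset)
      (hnot O hOH H ⟨1, hact1 H⟩) (hnot _ Set.sdiff_subset Y0 ⟨hY0, fun ⟨p, hp⟩ => hY0n p hp⟩)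
  -- a transitive action
  let St : Subgroup P :=
    { carrier := {p | act p H = H}
      one_mem' := hact1 H
      mul_mem' := fun {p q} (hp : act p H = H) (hq : act q H = H) => show act (p * q) H = H by rw [hactm, hq, hp]
      inv_mem' := fun {p} (hp : act p H = H) => show act p⁻¹ H = H by
        conv_lhs => rw [← hp]
        rw [← hactm, inv_mul_cancel, hact1] }
  have hSt : St ≠ ⊤ := fun e => by
    obtain ⟨p, hp⟩ := htrans H' hH'
    exact hne (hp.symm.trans (e ▸ Subgroup.mem_top p : p ∈ St))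
  obtain ⟨P1, hP1, hle⟩ := (eq_top_or_exists_le_coatom St).resolve_left hSt
  haveI : Fact (Nat.Prime 2) := ⟨Nat.prime_two⟩
  obtain ⟨hP1n, hP1i⟩ := CfsgLib.index_coatom_pGroup hP hP1
  haveI := hP1n
  obtain ⟨x, -, hx⟩ := SetLike.exists_of_lt hP1.lt_top
  have hor : ∀ q : P, q ∈ P1 ∨ x⁻¹ * q ∈ P1 := fun q => by
    by_cases hq : q ∈ P1
    · exact Or.inl hq
    · refine Or.inr ((Subgroup.mul_mem_iff_of_index_two hP1i).mpr (iff_of_false ?_ hq))
      rwa [P1.inv_mem_iff]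
  have hxx : x * x ∈ P1 := (Subgroup.mul_mem_iff_of_index_two hP1i).mpr Iff.rfl
  let O : Set (Subgroup (MulAut E)) := {Y | ∃ p ∈ P1, act p H = Y}
  let T : Set (Subgroup (MulAut E)) := {Y | ∃ p ∈ P1, act (x * p) H = Y}
  have hOH : O ⊆ Hs := by rintro _ ⟨p, -, rfl⟩; exact hactH p H hH
  have hTH : T ⊆ Hs := by rintro _ ⟨p, -, rfl⟩; exact hactH _ H hH
  have hs : Split z (Aof O) (Aof T) := by
    refine hsplit O T hOH hTH ?_ ?_
    · intro Y hY
      obtain ⟨p, rfl⟩ := htrans Y hY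
      rcases hor p with hp | hp
      · exact Or.inl ⟨p, hp, rfl⟩
      · exact Or.inr ⟨x⁻¹ * p, hp, by rw [mul_inv_cancel_left]⟩
    · rw [Set.disjoint_left]
      rintro _ ⟨p, hp, rfl⟩ ⟨q, hq, hpq⟩
      have hst : p⁻¹ * (x * q) ∈ St := by
        show act _ H = H
        rw [hactm, hpq, ← hactm, inv_mul_cancel, hact1]
      have h1 := P1.mul_mem (P1.mul_mem hp (hle hst)) (P1.inv_mem hq)
      rw [mul_inv_cancel_left, mul_inv_cancel_right] at h1
      exact hx h1
  let φ1 : P1 →* MulAut E := φ.comp P1.subtype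
  have hA1 : ∀ p : P1, φ1 p ∈ autStab (Aof O) := fun p => hφA p O (by
    rintro _ ⟨q, hq, rfl⟩; exact ⟨p * q, P1.mul_mem p.2 hq, hactm _ _ _⟩)
  have hB1 : ∀ p : P1, φ1 p ∈ autStab (Aof T) := fun p => hφA p T (by
    rintro _ ⟨q, hq, rfl⟩
    refine ⟨x⁻¹ * p * x * q, P1.mul_mem ?_ hq, ?_⟩
    · simpa using hP1n.conj_mem (p : P) p.2 x⁻¹
    · rw [← hactm]; congr 1; group)
  have hxAB : ∀ e ∈ Aof O, φ x e ∈ Aof T := hmapA _ O T (by
    rintro _ ⟨q, hq, rfl⟩
    exact ⟨_, ⟨q, hq, rfl⟩, fun e he => hactm x q H ▸ hacte x _ e he⟩)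
  have hxBA : ∀ e ∈ Aof T, φ x e ∈ Aof O := hmapA _ T O (by
    rintro _ ⟨q, hq, rfl⟩
    refine ⟨_, ⟨x * x * q, P1.mul_mem hxx hq, rfl⟩, fun e he => ?_⟩
    rw [mul_assoc, hactm]
    exact hacte x _ e he)
  have hxBA' : ∀ e ∈ Aof T, φ x⁻¹ e ∈ Aof O := fun e he => by
    have h1 := hxBA e he
    have h2 := (hA1 ⟨(x * x)⁻¹, P1.inv_mem hxx⟩ (φ x e)).mpr h1
    show φ x⁻¹ e ∈ Aof O
    have e3 : φ ((x * x)⁻¹) (φ x e) = φ x⁻¹ e := by
      rw [← MulAut.mul_apply, ← map_mul]; congr 2; group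
    rwa [← e3]
  have hBn : ¬ Aof T ≤ C := hnot T hTH _ ⟨1, P1.one_mem, rfl⟩
  obtain ⟨χA, hcA, hzA, hdA⟩ := good_piece ih h (hP.to_subgroup P1) φ1 hs hA1 X hXodd
    (fun p y hy => hXn p y hy) hXfix (hXA O hOH) (hnot O hOH H ⟨1, P1.one_mem, hact1 H⟩) hBn
  let fB : Aof T →* Aof O :=
    { toFun := fun b => ⟨φ x⁻¹ b, hxBA' b b.2⟩
      map_one' := Subtype.ext (map_one _)
      map_mul' := fun a b => Subtype.ext (map_mul (φ x⁻¹) (a : E) b) }
  let τ : Aof T ⋊[resAct _ φ1 hB1] P1 →* Aof O ⋊[resAct _ φ1 hA1] P1 :=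
    SemidirectProduct.map fB (MulAut.conjNormal x⁻¹).toMonoidHom fun p => by
      ext b
      show φ x⁻¹ (φ (p : P) b) = φ ((MulAut.conjNormal x⁻¹ p : P1) : P) (φ x⁻¹ b)
      rw [← MulAut.mul_apply, ← map_mul, ← MulAut.mul_apply, ← map_mul, MulAut.conjNormal_apply]
      congr 2
      group
  let χB : Aof T ⋊[resAct _ φ1 hB1] P1 → ℂ := fun y => χA (τ y)
  have hcardAB : Nat.card (Aof T) = Nat.card (Aof O) := le_antisymm
    (Nat.card_le_card_of_injective (fun b => (⟨φ x b, hxBA b b.2⟩ : Aof O))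
      fun a b e => Subtype.ext ((φ x).injective (congrArg Subtype.val e)))
    (Nat.card_le_card_of_injective (fun a => (⟨φ x a, hxAB a a.2⟩ : Aof T))
      fun a b e => Subtype.ext ((φ x).injective (congrArg Subtype.val e)))
  obtain ⟨χ1, hc1, hz1, hd1, hform⟩ := exists_prod_char h φ1 hs hA1 hB1 hcA hzA hdA
    (χB := χB) (isCharacter_comp hcA τ)
    (by
      show χA (τ _) = -χA (τ 1)
      rw [map_one, SemidirectProduct.map_inl, ← hzA]
      congr 2
      exact Subtype.ext (aut_fix_z h _))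
    (by show 2 * χA (τ 1) ^ 2 = _; rw [map_one, hdA, hcardAB])
  haveI : Finite (E ⋊[φ] P) := Finite.of_equiv _ SemidirectProduct.equivProd.symm
  haveI : Finite (E ⋊[φ1] P1) := Finite.of_equiv _ SemidirectProduct.equivProd.symm
  haveI : Finite (Aof O ⋊[resAct _ φ1 hA1] P1) := Finite.of_equiv _ SemidirectProduct.equivProd.symm
  -- `x`-invariance
  have hswap : ∀ (e : E) (p : P1), χ1 ⟨φ x e, MulAut.conjNormal x p⟩ = χ1 ⟨e, p⟩ := by
    intro e p
    obtain ⟨a, ha, b, hb, rfl⟩ := hs.exists_mul e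
    rw [map_mul, hs.symm.comm _ (hxAB a ha) _ (hxBA b hb), hform ⟨_, hxBA b hb⟩ ⟨_, hxAB a ha⟩,
      hform ⟨a, ha⟩ ⟨b, hb⟩, mul_comm (χA ⟨⟨a, ha⟩, p⟩)]
    congr 1
    · show _ = χA (τ _)
      rw [← isClassFunction_char hcA (τ ⟨⟨b, hb⟩, p⟩) (SemidirectProduct.inr ⟨x * x, hxx⟩)]
      congr 1
      refine SemidirectProduct.ext (Subtype.ext ?_) (Subtype.ext ?_)
      · simp only [τ, fB, SemidirectProduct.mul_left, SemidirectProduct.mul_right, SemidirectProduct.left_inr,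
          SemidirectProduct.right_inr, SemidirectProduct.map_left, SemidirectProduct.inv_left, map_one, inv_one,
          one_mul, mul_one]
        show φ x b = φ (x * x) (φ x⁻¹ b)
        rw [← MulAut.mul_apply, ← map_mul, mul_inv_cancel_right]
      · simp [τ, MulAut.conjNormal_apply, mul_assoc]
    · show χA (τ _) = _
      congr 1
      refine SemidirectProduct.ext (Subtype.ext ?_) (Subtype.ext ?_)
      · show φ x⁻¹ (φ x a) = a
        rw [map_inv]; exact MulAut.inv_apply_self _ _ _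
      · simp [τ, MulAut.conjNormal_apply, mul_assoc]
  let N : Subgroup (E ⋊[φ] P) := P1.comap SemidirectProduct.rightHom
  haveI hNn : N.Normal := hP1n.comap _
  let ι : N →* E ⋊[φ1] P1 :=
    { toFun := fun n => ⟨(n : E ⋊[φ] P).left, ⟨(n : E ⋊[φ] P).right, n.2⟩⟩
      map_one' := rfl
      map_mul' := fun _ _ => rfl }
  let inlN : E →* N := SemidirectProduct.inl.codRestrict N fun e => by simp [N]
  have hιl : ∀ e, ι (inlN e) = SemidirectProduct.inl e := fun e => by ext <;> simp [ι, inlN]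
  have hχNc : IsCharacter N (fun n => χ1 (ι n)) := isCharacter_comp hc1 ι
  have hχNi : IsIrrCharacter N (fun n => χ1 (ι n)) := by
    refine irr_of_comp inlN hχNc ?_
    simp only [hιl]
    exact irr_restrict h SemidirectProduct.inl hc1 hz1 hd1
  have hinv : ∀ (g : E ⋊[φ] P) (n : N),
      χ1 (ι ⟨g * (n : E ⋊[φ] P) * g⁻¹, hNn.conj_mem (n : E ⋊[φ] P) n.2 g⟩) = χ1 (ι n) := by
    have hx' : ∀ n : N, χ1 (ι ⟨SemidirectProduct.inr x * (n : E ⋊[φ] P) * (SemidirectProduct.inr x)⁻¹,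
        hNn.conj_mem (n : E ⋊[φ] P) n.2 _⟩) = χ1 (ι n) := fun n => by
      refine Eq.trans (congrArg χ1 ?_) (hswap (n : E ⋊[φ] P).left ⟨(n : E ⋊[φ] P).right, n.2⟩)
      refine SemidirectProduct.ext ?_ (Subtype.ext ?_)
      · simp [ι]
      · simp [ι, MulAut.conjNormal_apply]
    intro g n
    rcases hor g.right with hg | hg
    · have hgN : g ∈ N := hg
      exact isClassFunction_char hχNc n ⟨g, hgN⟩
    · have hkN : (SemidirectProduct.inr x)⁻¹ * g ∈ N := by
        show SemidirectProduct.rightHom _ ∈ P1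
        simpa using hg
      have h1 := hx' (⟨_, hkN⟩ * n * ⟨_, hkN⟩⁻¹)
      have h2 : χ1 (ι (⟨_, hkN⟩ * n * ⟨_, hkN⟩⁻¹)) = χ1 (ι n) := isClassFunction_char hχNc n ⟨_, hkN⟩
      rw [h2] at h1
      rw [← h1]
      congr 2
      apply Subtype.ext
      simp only [Subgroup.coe_mul, Subgroup.coe_inv]
      group
  have hidx : Nat.card ((E ⋊[φ] P) ⧸ N) = 2 := by
    rw [← Subgroup.index_eq_card, Subgroup.index_comap_of_surjective _ SemidirectProduct.rightHom_surjective, hP1i]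
  obtain ⟨χ, hχi, hχ⟩ := exists_extension_of_cyclic hχNi hinv (isCyclic_of_prime_card hidx)
  refine ⟨χ, isCharacter_of_irr hχi, ?_, ?_⟩
  · rw [show χ (SemidirectProduct.inl z) = χ1 (ι (inlN z)) from hχ (inlN z), show χ 1 = χ1 (ι 1) from hχ 1,
      hιl, map_one, hz1]
  · rw [show χ 1 = χ1 (ι 1) from hχ 1, map_one, hd1]

end CfsgLib.ExtraTwoExt
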