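import Cfsg.Agent.Lib.CharTheory.ExtraTwoExt.Cyclic

/-!
The faithful character of an extraspecial 2-group extends over a 2-group normalising a group of odd prime
order that fixes only the centre.
-/

set_option autoImplicit false
set_option linter.unusedSectionVars false
set_option linter.style.haveILetI false
set_option maxHeartbeats 800000

namespace CfsgLib.ExtraTwoExt

open Cfsg CfsgLib.ExtraTwo CfsgLib.CharTheory
open scoped ComplexConjugate commutatorElement

universe u v w

/-- A character is irreducible if a restriction is. -/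
theorem irr_of_comp {G : Type u} [Group G] [Finite G] {H : Type v} [Group H] [Finite H] (f : H →* G) {χ : G → ℂ}
    (hχ : IsCharacter G χ) (hi : IsIrrCharacter H (fun x => χ (f x))) : IsIrrCharacter G χ := by
  obtain ⟨n, ρ, rfl⟩ := hχ
  obtain ⟨m, σ, hσ, hσc⟩ := hi
  obtain ⟨e⟩ := nonempty_equiv_of_character_eq σ (ρ.comp f) hσc
  haveI := hσ
  have hs : IsSimpleOrder (Subrepresentation (ρ.comp f)) := isIrreducible_of_equiv e
  refine ⟨n, ρ, ?_, rfl⟩
  have hne : (⊥ : Subrepresentation ρ) ≠ ⊤ := fun he => bot_ne_top (α := Subrepresentation (ρ.comp f))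
    (Subrepresentation.toSubmodule_injective (show (⊥ : Submodule ℂ (Fin n → ℂ)) = ⊤ from congrArg Subrepresentation.toSubmodule he))
  haveI : Nontrivial (Subrepresentation ρ) := ⟨⟨⊥, ⊤, hne⟩⟩
  refine ⟨fun p => ?_⟩
  rcases hs.eq_bot_or_eq_top ⟨p.toSubmodule, fun x _ hv => p.apply_mem_toSubmodule (f x) hv⟩ with h | h
  · exact Or.inl (Subrepresentation.toSubmodule_injective (congrArg Subrepresentation.toSubmodule h : p.toSubmodule = ⊥))
  · exact Or.inr (Subrepresentation.toSubmodule_injective (congrArg Subrepresentation.toSubmodule h : p.toSubmodule = ⊤))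

variable {E : Type u} [Group E] [Finite E] {z : E}

theorem exponent_hom {r : ℕ} [hr : Fact r.Prime] {m : MulAut E} (hord : orderOf m = r) {P : Type v} [Group P]
    (φ : P →* MulAut E) (hn : ∀ p, ∃ n : ℕ, φ p * m * (φ p)⁻¹ = m ^ n) :
    ∃ η : P →* (ZMod r)ˣ, ∀ p, φ p * m * (φ p)⁻¹ = m ^ ((η p : ZMod r)).val := by
  have hm : m ^ r = 1 := hord ▸ pow_orderOf_eq_one m
  have hinj : ∀ a b : ZMod r, m ^ a.val = m ^ b.val → a = b := fun a b h => by
    rw [pow_inj_mod, hord, Nat.mod_eq_of_lt a.val_lt, Nat.mod_eq_of_lt b.val_lt] at h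
    exact ZMod.val_injective r h
  have hmul : ∀ a b : ZMod r, (m ^ a.val) ^ b.val = m ^ (a * b).val := fun a b => by
    rw [← pow_mul, ZMod.val_mul, ← pow_eq_pow_mod _ hm]
  choose n hn using hn
  have hk : ∀ p, φ p * m * (φ p)⁻¹ = m ^ ((n p : ZMod r)).val := fun p => by
    rw [hn p, ZMod.val_natCast, ← pow_eq_pow_mod _ hm]
  have h1 : (n 1 : ZMod r) = 1 := hinj _ _ (by
    rw [← hk, map_one, inv_one, mul_one, one_mul, ZMod.val_one, pow_one])
  have hmm : ∀ p q, (n (p * q) : ZMod r) = (n p : ZMod r) * (n q : ZMod r) := fun p q => hinj _ _ (by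
    rw [← hk, ← hmul, map_mul, mul_inv_rev, ← hk p, conj_pow, ← hk q]
    have : φ p * φ q * m * ((φ q)⁻¹ * (φ p)⁻¹) = φ p * (φ q * m * (φ q)⁻¹) * (φ p)⁻¹ := by group
    rw [this, hk q])
  exact ⟨MonoidHom.toHomUnits { toFun := fun p => (n p : ZMod r), map_one' := h1, map_mul' := hmm }, hk⟩

/-- The extension when a group of prime order fixing only the centre is normalised. -/
theorem good_of_normalised (h : Ext2 E z) {r : ℕ} [hr : Fact r.Prime] (hr2 : r ≠ 2) {m : MulAut E} (hm : m ^ r = 1)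
    (hm1 : m ≠ 1) (hfix : ∀ e, m e = e → e = 1 ∨ e = z) {P : Type v} [Group P] [Finite P] (hP : IsPGroup 2 P)
    (φ : P →* MulAut E) (hn : ∀ p, ∃ n : ℕ, φ p * m * (φ p)⁻¹ = m ^ n) : Good z φ := by
  classical
  have hord : orderOf m = r := orderOf_eq_prime hm hm1
  obtain ⟨η, hη⟩ := exponent_hom hord φ hn
  set P0 := η.ker
  set φ0 : P0 →* MulAut E := φ.comp P0.subtype
  have hc : ∀ p : P0, Commute (φ0 p) m := fun p => by
    have h1 := hη (p : P)
    rw [show η (p : P) = 1 from p.2, Units.val_one, ZMod.val_one, pow_one] at h1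
    exact mul_inv_eq_iff_eq_mul.mp h1
  have hcop : (Nat.card P0).Coprime r := by
    obtain ⟨k, hk⟩ := IsPGroup.iff_card.mp (hP.to_subgroup P0)
    rw [hk]
    exact Nat.Coprime.pow_left _ (Nat.coprime_two_left.mpr (hr.out.odd_of_ne_two hr2))
  obtain ⟨Φ, hΦi, hΦz, hΦd, δ, hδ, hΦel⟩ := exists_psi φ0 h hr2 hm hfix hcop hc
  have hΦc := isCharacter_of_irr hΦi
  haveI : Finite (E ⋊[combHom φ0 hm hc] (P0 × Multiplicative (ZMod r))) :=
    Finite.of_equiv _ SemidirectProduct.equivProd.symm
  letI : Fintype (E ⋊[combHom φ0 hm hc] (P0 × Multiplicative (ZMod r))) := Fintype.ofFinite _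
  haveI : Finite (E ⋊[φ] P) := Finite.of_equiv _ SemidirectProduct.equivProd.symm
  haveI := Fintype.ofFinite E
  haveI := Fintype.ofFinite P0
  let f : E ⋊[φ] P →* (ZMod r)ˣ := η.comp SemidirectProduct.rightHom
  set N := f.ker
  have hcomb : ∀ (p : P0) (s : ZMod r) (e : E),
      combHom φ0 hm hc (p, Multiplicative.ofAdd s) e = φ (p : P) ((m ^ s.val) e) := fun p s e => by
    rw [combHom_apply]; rfl
  let ι : N →* E ⋊[combHom φ0 hm hc] (P0 × Multiplicative (ZMod r)) :=
    MonoidHom.mk' (fun n => ⟨(n : E ⋊[φ] P).left, (⟨(n : E ⋊[φ] P).right, n.2⟩, 1)⟩) fun a b => by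
      refine SemidirectProduct.ext ?_ (Prod.ext (Subtype.ext rfl) (one_mul (1 : Multiplicative (ZMod r))).symm)
      show _ = (a : E ⋊[φ] P).left * combHom φ0 hm hc (⟨(a : E ⋊[φ] P).right, a.2⟩, Multiplicative.ofAdd 0) (b : E ⋊[φ] P).left
      rw [hcomb]
      simp
  let inlN : E →* N := SemidirectProduct.inl.codRestrict N fun e => by simp [N, f, MonoidHom.mem_ker]
  have hιl : ∀ e, ι (inlN e) = SemidirectProduct.inl e := fun e => by
    ext <;> simp [ι, inlN]
  set χN : N → ℂ := fun n => Φ (ι n) with hχN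
  have hχNc : IsCharacter N χN := isCharacter_comp hΦc ι
  have hχNi : IsIrrCharacter N χN := by
    refine irr_of_comp inlN hχNc ?_
    simp only [hχN, hιl]
    exact irr_restrict h SemidirectProduct.inl hΦc hΦz hΦd
  -- the action of `P` on the larger group
  let σ : P → (E ⋊[combHom φ0 hm hc] (P0 × Multiplicative (ZMod r)) →* E ⋊[combHom φ0 hm hc] (P0 × Multiplicative (ZMod r))) :=
    fun x => SemidirectProduct.map (φ x).toMonoidHom
      ((MulAut.conjNormal x).toMonoidHom.prodMap
        (AddMonoidHom.toMultiplicative (AddMonoidHom.mulRight (η x : ZMod r))))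
      fun g => by
        obtain ⟨p, s, rfl⟩ : ∃ p s, g = (p, Multiplicative.ofAdd s) := ⟨g.1, Multiplicative.toAdd g.2, rfl⟩
        ext e
        show φ x (combHom φ0 hm hc (p, Multiplicative.ofAdd s) e) =
          combHom φ0 hm hc (MulAut.conjNormal x p, Multiplicative.ofAdd (s * (η x : ZMod r))) (φ x e)
        rw [hcomb, hcomb]
        have e1 : φ x * (φ (p : P) * m ^ s.val) = φ (x * p * x⁻¹) * m ^ (s * (η x : ZMod r)).val * φ x := by
          rw [mul_comm s, ZMod.val_mul, ← pow_eq_pow_mod _ hm, pow_mul, ← hη x, conj_pow, map_mul, map_mul, map_inv]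
          group
        simpa [MulAut.conjNormal_apply] using DFunLike.congr_fun e1 e
  have hσl : ∀ x e, σ x (SemidirectProduct.inl e) = SemidirectProduct.inl (φ x e) := fun x e => by
    simp [σ]
  have hσr : ∀ x (p : P0) (s : ZMod r), σ x (SemidirectProduct.inr (p, Multiplicative.ofAdd s)) =
      SemidirectProduct.inr (MulAut.conjNormal x p, Multiplicative.ofAdd (s * (η x : ZMod r))) := fun x p s =>
    by simp only [σ, SemidirectProduct.map_inr]; rfl
  have hσb : ∀ x, Function.Surjective (σ x) := fun x => by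
    intro g
    refine ⟨⟨(φ x).symm g.left, ((MulAut.conjNormal x).symm g.right.1,
      Multiplicative.ofAdd (Multiplicative.toAdd g.right.2 * (((η x)⁻¹ : (ZMod r)ˣ) : ZMod r)))⟩, ?_⟩
    refine SemidirectProduct.ext ((φ x).apply_symm_apply g.left)
      (Prod.ext ((MulAut.conjNormal x).apply_symm_apply g.right.1) ?_)
    show Multiplicative.ofAdd
      (Multiplicative.toAdd g.right.2 * (((η x)⁻¹ : (ZMod r)ˣ) : ZMod r) * (η x : ZMod r)) = g.right.2
    rw [mul_assoc, Units.inv_mul, mul_one]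
    rfl
  have hσΦ : ∀ x, (fun g => Φ (σ x g)) = Φ := by
    intro x
    by_contra hne
    have hi : IsIrrCharacter _ (fun g => Φ (σ x g)) := isIrrCharacter_comp_surjective hΦi (σ x) (hσb x)
    have h0 := classInner_irr_ne hi hΦi hne
    let ι0 : E ⋊[φ0] P0 →* E ⋊[combHom φ0 hm hc] (P0 × Multiplicative (ZMod r)) :=
      SemidirectProduct.map (MonoidHom.id E) (MonoidHom.inl P0 _) fun p => by
        ext e
        simp [combHom, powHom, φ0]
    haveI : Finite (E ⋊[φ0] P0) := Finite.of_equiv _ SemidirectProduct.equivProd.symm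
    letI : Fintype (E ⋊[φ0] P0) := Fintype.ofFinite _
    obtain ⟨n, hn0⟩ := classInner_char_nat (isCharacter_comp (isCharacter_comp hΦc (σ x)) ι0) (isCharacter_comp hΦc ι0)
    simp only [classInner, mul_eq_zero, inv_eq_zero, Nat.cast_eq_zero, Nat.card_pos.ne', false_or] at h0 hn0
    rw [inv_mul_eq_iff_eq_mul₀ (Nat.cast_ne_zero.mpr Nat.card_pos.ne')] at hn0
    let F := fun g => Φ (σ x g) * conj (Φ g)
    have hval : ∀ (e : E) (p : P0) (s : ZMod r), s ≠ 0 →
        F (SemidirectProduct.inl e * SemidirectProduct.inr (p, Multiplicative.ofAdd s)) = 1 := by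
      intro e p s hs
      obtain ⟨c, a, hca, rfl⟩ := exists_twist h (combHom φ0 hm hc (p, Multiplicative.ofAdd s))
        (fun u hu => fixed_mod h hr2 hm hfix hcop φ0 hc p hs hu) e
      set T : E ⋊[combHom φ0 hm hc] (P0 × Multiplicative (ZMod r)) := SemidirectProduct.inr (p, Multiplicative.ofAdd s)
      have e1 : SemidirectProduct.inl (c * (a * (combHom φ0 hm hc (p, Multiplicative.ofAdd s) a)⁻¹)) * T
          = SemidirectProduct.inl c * (SemidirectProduct.inl a * T * (SemidirectProduct.inl a)⁻¹) := by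
        rw [← map_inv SemidirectProduct.inl a, map_mul, map_mul, mul_assoc (SemidirectProduct.inl c),
          mul_assoc (SemidirectProduct.inl a), mul_assoc (SemidirectProduct.inl a)]
        congr 2
        ext <;> simp [T]
      have hs' : s * (η x : ZMod r) ≠ 0 := mul_ne_zero hs (η x).ne_zero
      have hcz : φ x c = c := by rcases hca with rfl | rfl; exacts [map_one _, aut_fix_z h _]
      have hneg := char_neg_mul hΦc (by rw [← map_mul, h.zz, map_one]) hΦz
      show Φ (σ x _) * conj (Φ _) = 1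
      rw [e1, map_mul, hσl, hcz, map_mul, map_mul, map_inv, hσl, show σ x T = _ from hσr x p s]
      rcases hca with rfl | rfl
      · rw [map_one, one_mul, one_mul, isClassFunction_char hΦc, isClassFunction_char hΦc, hΦel _ _ hs', hΦel _ _ hs, hδ]
      · rw [hneg, hneg, isClassFunction_char hΦc, isClassFunction_char hΦc, hΦel _ _ hs', hΦel _ _ hs, map_neg,
          neg_mul_neg, hδ]
    rw [← Equiv.sum_comp SemidirectProduct.equivProd.symm, Fintype.sum_prod_type, Finset.sum_comm,
      Fintype.sum_prod_type, Finset.sum_comm, ← Equiv.sum_comp Multiplicative.ofAdd,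
      ← Finset.add_sum_erase _ _ (Finset.mem_univ (0 : ZMod r))] at h0
    have hsp : ∀ (e : E) (p : P0) (s : ZMod r),
        (SemidirectProduct.equivProd.symm (e, (p, Multiplicative.ofAdd s)) : E ⋊[combHom φ0 hm hc] _) =
          SemidirectProduct.inl e * SemidirectProduct.inr (p, Multiplicative.ofAdd s) := fun e p s => by
      ext <;> simp
    rw [Finset.sum_congr (s₁ := Finset.univ.erase (0 : ZMod r)) rfl (fun s hs => Finset.sum_congr rfl fun p _ =>
      Finset.sum_congr rfl fun e _ => show _ = (1 : ℂ) by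
        rw [hsp]; exact hval e p s (Finset.ne_of_mem_erase hs))] at h0
    rw [show (∑ p : P0, ∑ e : E, _) = ∑ y, Φ (σ x (ι0 y)) * conj (Φ (ι0 y)) from ?_, hn0] at h0
    · simp only [Finset.sum_const, Finset.card_erase_of_mem, Finset.mem_univ, Finset.card_univ, ZMod.card,
        nsmul_eq_mul, mul_one, ← Nat.card_eq_fintype_card, ← Nat.cast_mul, ← Nat.cast_add] at h0
      have h2 := (Nat.cast_eq_zero (R := ℂ)).mp h0
      have := hr.out.two_le
      have h3 : 0 < (r - 1) * (Nat.card P0 * Nat.card E) :=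
        Nat.mul_pos (by omega) (Nat.mul_pos Nat.card_pos Nat.card_pos)
      rw [Nat.add_eq_zero_iff] at h2
      rw [Nat.card_zmod] at h2
      exact h3.ne' h2.2
    · rw [← Equiv.sum_comp SemidirectProduct.equivProd.symm, Fintype.sum_prod_type, Finset.sum_comm]
      refine Finset.sum_congr rfl fun e _ => Finset.sum_congr rfl fun p _ => ?_
      have : ι0 (SemidirectProduct.equivProd.symm (e, p)) =
          SemidirectProduct.equivProd.symm (e, (p, Multiplicative.ofAdd (0 : ZMod r))) := by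
        ext <;> simp [ι0]
      rw [this]
  have hinv : ∀ (g : E ⋊[φ] P) (n : N), χN ⟨g * (n : E ⋊[φ] P) * g⁻¹, (f.normal_ker).conj_mem (n : E ⋊[φ] P) n.2 g⟩ = χN n := by
    intro g n
    have e1 : (⟨g * (n : E ⋊[φ] P) * g⁻¹, (f.normal_ker).conj_mem (n : E ⋊[φ] P) n.2 g⟩ : N) = inlN g.left *
        ⟨SemidirectProduct.inr g.right * (n : E ⋊[φ] P) * (SemidirectProduct.inr g.right)⁻¹,
          (f.normal_ker).conj_mem (n : E ⋊[φ] P) n.2 _⟩ * (inlN g.left)⁻¹ := Subtype.ext (by
      show g * (n : E ⋊[φ] P) * g⁻¹ = SemidirectProduct.inl g.left * (SemidirectProduct.inr g.right * (n : E ⋊[φ] P) *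
        (SemidirectProduct.inr g.right)⁻¹) * (SemidirectProduct.inl g.left)⁻¹
      conv_lhs => rw [← SemidirectProduct.inl_left_mul_inr_right g]
      group)
    rw [e1, isClassFunction_char hχNc]
    have e2 : ι ⟨SemidirectProduct.inr g.right * (n : E ⋊[φ] P) * (SemidirectProduct.inr g.right)⁻¹,
        (f.normal_ker).conj_mem (n : E ⋊[φ] P) n.2 _⟩ = σ g.right (ι n) := by
      ext <;> simp [ι, σ, MulAut.conjNormal_apply]
    show Φ (ι _) = Φ (ι n)
    rw [e2]
    exact congrFun (hσΦ g.right) (ι n)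
  have hcyc : IsCyclic ((E ⋊[φ] P) ⧸ N) :=
    isCyclic_of_injective (QuotientGroup.quotientKerEquivRange f).toMonoidHom
      (QuotientGroup.quotientKerEquivRange f).injective
  obtain ⟨χ, hχi, hχ⟩ := exists_extension_of_cyclic hχNi hinv hcyc
  refine ⟨χ, isCharacter_of_irr hχi, ?_, ?_⟩
  · rw [show χ (SemidirectProduct.inl z) = χN (inlN z) from hχ (inlN z), show χ 1 = χN 1 from hχ 1]
    simp only [hχN, hιl, map_one, hΦz]
  · rw [show χ 1 = χN 1 from hχ 1]
    simp only [hχN, map_one]
    exact hΦd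

end CfsgLib.ExtraTwoExt
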