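import Cfsg.Agent.Lib.CharTheory.ExtraTwoExt.Normalised

/-!
Restricting automorphisms to invariant subgroups of an extraspecial 2-group and multiplying characters of
commuting pieces.
-/

set_option autoImplicit false
set_option linter.unusedSectionVars false
set_option linter.style.haveILetI false
set_option maxHeartbeats 800000

namespace CfsgLib.ExtraTwoExt

open Cfsg CfsgLib.ExtraTwo CfsgLib.CharTheory
open scoped ComplexConjugate commutatorElement

universe u v

variable {E : Type u} [Group E] {z : E}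

/-- The automorphisms stabilising a subgroup. -/
def autStab (A : Subgroup E) : Subgroup (MulAut E) where
  carrier := {α | ∀ e, α e ∈ A ↔ e ∈ A}
  one_mem' := fun _ => Iff.rfl
  mul_mem' := fun {α β} hα hβ e => by rw [MulAut.mul_apply, hα, hβ]
  inv_mem' := fun {α} hα e => by rw [← hα, MulAut.apply_inv_self]

theorem mem_autStab [Finite E] {A : Subgroup E} {α : MulAut E} (h : ∀ a ∈ A, α a ∈ A) : α ∈ autStab A := by
  intro e
  refine ⟨fun he => ?_, h e⟩
  have hm : A.map α.toMonoidHom = A :=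
    Subgroup.eq_of_le_of_card_ge (Subgroup.map_le_iff_le_comap.mpr h)
      (Subgroup.card_map_of_injective α.injective).ge
  obtain ⟨a, ha, hae⟩ := Subgroup.mem_map.mp (hm.symm ▸ he : α e ∈ A.map α.toMonoidHom)
  rwa [← α.injective hae]

/-- Restriction of automorphisms. -/
def resHom (A : Subgroup E) : autStab A →* MulAut A where
  toFun α :=
    { toFun := fun a => ⟨(α : MulAut E) a, (α.2 a).mpr a.2⟩
      invFun := fun a => ⟨(α : MulAut E)⁻¹ a, ((α⁻¹).2 a).mpr a.2⟩
      left_inv := fun a => Subtype.ext (MulAut.inv_apply_self _ _ _)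
      right_inv := fun a => Subtype.ext (MulAut.apply_inv_self _ _ _)
      map_mul' := fun a b => Subtype.ext (map_mul (α : MulAut E) (a : E) b) }
  map_one' := rfl
  map_mul' _ _ := rfl

theorem coe_resHom (A : Subgroup E) (α : autStab A) (a : A) : ((resHom A α a : A) : E) = (α : MulAut E) a := rfl

/-- The action on an invariant subgroup. -/
def resAct {P : Type v} [Group P] (A : Subgroup E) (φ : P →* MulAut E) (hA : ∀ p, φ p ∈ autStab A) : P →* MulAut A :=
  (resHom A).comp (φ.codRestrict _ hA)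

@[simp] theorem coe_resAct {P : Type v} [Group P] (A : Subgroup E) (φ : P →* MulAut E) (hA : ∀ p, φ p ∈ autStab A)
    (p : P) (a : A) : ((resAct A φ hA p a : A) : E) = φ p a := rfl

variable [Finite E]

/-- Commuting subgroups generating `E`. -/
structure Split (z : E) (A B : Subgroup E) : Prop where
  comm : ∀ a ∈ A, ∀ b ∈ B, a * b = b * a
  sup : A ⊔ B = ⊤
  zA : z ∈ A
  zB : z ∈ B

theorem Split.symm {A B : Subgroup E} (s : Split z A B) : Split z B A :=
  ⟨fun b hb a ha => (s.comm a ha b hb).symm, sup_comm A B ▸ s.sup, s.zB, s.zA⟩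

theorem Split.exists_mul {A B : Subgroup E} (s : Split z A B) (e : E) : ∃ a ∈ A, ∃ b ∈ B, a * b = e := by
  have hc : ∀ (a : A) (b : B), Commute (a : E) (b : E) := fun a b => s.comm a a.2 b b.2
  have hr : A ⊔ B ≤ (MonoidHom.noncommCoprod A.subtype B.subtype hc).range :=
    sup_le (fun x hx => ⟨(⟨x, hx⟩, 1), by simp [MonoidHom.noncommCoprod]⟩)
      (fun x hx => ⟨(1, ⟨x, hx⟩), by simp [MonoidHom.noncommCoprod]⟩)
  obtain ⟨⟨a, b⟩, hab⟩ := hr (s.sup ▸ Subgroup.mem_top e)
  exact ⟨a, a.2, b, b.2, hab⟩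

theorem Split.ext2 (h : Ext2 E z) {A B : Subgroup E} (s : Split z A B) : Ext2 A ⟨z, s.zA⟩ where
  ne e := h.ne (congrArg Subtype.val e)
  center_iff a := by
    refine ⟨fun ha => ?_, fun ha => Subgroup.mem_center_iff.mpr fun g => Subtype.ext ?_⟩
    · rcases (h.center_iff (a : E)).mp (Subgroup.mem_center_iff.mpr fun e => by
        obtain ⟨c, hc, b, hb, rfl⟩ := s.exists_mul e
        have h1 : c * (a : E) = a * c := congrArg Subtype.val (Subgroup.mem_center_iff.mp ha ⟨c, hc⟩)
        rw [mul_assoc, (s.comm a a.2 b hb).symm, ← mul_assoc, h1, mul_assoc]) with e | e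
      · exact Or.inl (Subtype.ext e)
      · exact Or.inr (Subtype.ext e)
    · show (g : E) * a = a * g
      rcases ha with rfl | rfl
      · simp
      · exact h.z_comm g
  sq a := (h.sq (a : E)).imp (fun e => Subtype.ext e) fun e => Subtype.ext e

theorem Split.inter (h : Ext2 E z) {A B : Subgroup E} (s : Split z A B) {u : E} (hA : u ∈ A) (hB : u ∈ B) :
    u = 1 ∨ u = z := by
  refine (h.center_iff u).mp (Subgroup.mem_center_iff.mpr fun e => ?_)
  obtain ⟨c, hc, b, hb, rfl⟩ := s.exists_mul e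
  rw [mul_assoc, ← s.comm u hA b hb, ← mul_assoc, s.comm c hc u hB, mul_assoc]

/-- The product of characters of commuting pieces. -/
theorem exists_prod_char (h : Ext2 E z) {P : Type v} [Group P] [Finite P] (φ : P →* MulAut E) {A B : Subgroup E}
    (s : Split z A B) (hA : ∀ p, φ p ∈ autStab A) (hB : ∀ p, φ p ∈ autStab B)
    {χA : A ⋊[resAct A φ hA] P → ℂ} (hχA : IsCharacter _ χA)
    (hAz : χA (SemidirectProduct.inl ⟨z, s.zA⟩) = -χA 1) (hAd : 2 * χA 1 ^ 2 = (Nat.card A : ℂ))
    {χB : B ⋊[resAct B φ hB] P → ℂ} (hχB : IsCharacter _ χB)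
    (hBz : χB (SemidirectProduct.inl ⟨z, s.zB⟩) = -χB 1) (hBd : 2 * χB 1 ^ 2 = (Nat.card B : ℂ)) :
    ∃ χ : E ⋊[φ] P → ℂ, IsCharacter _ χ ∧ χ (SemidirectProduct.inl z) = -χ 1 ∧ 2 * χ 1 ^ 2 = (Nat.card E : ℂ) ∧
      ∀ (a : A) (b : B) (p : P), χ ⟨(a : E) * b, p⟩ = χA ⟨a, p⟩ * χB ⟨b, p⟩ := by
  classical
  let ψ : P →* MulAut (A × B) :=
    { toFun := fun p => MulEquiv.prodCongr (resAct A φ hA p) (resAct B φ hB p)
      map_one' := by ext x <;> simp [MulEquiv.prodCongr]
      map_mul' := fun p q => by ext x <;> simp [MulEquiv.prodCongr] }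
  let m : A × B →* E := MonoidHom.noncommCoprod A.subtype B.subtype fun a b => s.comm a a.2 b b.2
  let f : (A × B) ⋊[ψ] P →* E ⋊[φ] P := SemidirectProduct.map m (MonoidHom.id P) fun p => by
    ext x <;> simp [m, ψ, MulEquiv.prodCongr, MonoidHom.noncommCoprod]
  let f1 : (A × B) ⋊[ψ] P →* A ⋊[resAct A φ hA] P :=
    SemidirectProduct.map (MonoidHom.fst A B) (MonoidHom.id P) fun p => by ext x <;> simp [ψ, MulEquiv.prodCongr]
  let f2 : (A × B) ⋊[ψ] P →* B ⋊[resAct B φ hB] P :=
    SemidirectProduct.map (MonoidHom.snd A B) (MonoidHom.id P) fun p => by ext x <;> simp [ψ, MulEquiv.prodCongr]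
  haveI : Finite ((A × B) ⋊[ψ] P) := Finite.of_equiv _ SemidirectProduct.equivProd.symm
  haveI : Finite (E ⋊[φ] P) := Finite.of_equiv _ SemidirectProduct.equivProd.symm
  haveI : Finite (A ⋊[resAct A φ hA] P) := Finite.of_equiv _ SemidirectProduct.equivProd.symm
  haveI : Finite (B ⋊[resAct B φ hB] P) := Finite.of_equiv _ SemidirectProduct.equivProd.symm
  set χ' : (A × B) ⋊[ψ] P → ℂ := (fun x => χA (f1 x)) * (fun x => χB (f2 x)) with hχ'
  have hc' : IsCharacter _ χ' := isCharacter_mul (isCharacter_comp hχA f1) (isCharacter_comp hχB f2)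
  have hm : Function.Surjective m := fun e => by
    obtain ⟨a, ha, b, hb, rfl⟩ := s.exists_mul e
    exact ⟨(⟨a, ha⟩, ⟨b, hb⟩), rfl⟩
  have hf : Function.Surjective f := fun g => by
    obtain ⟨x, hx⟩ := hm g.left
    exact ⟨⟨x, g.right⟩, by ext <;> simp [f, hx]⟩
  have hmk : ∀ x : A × B, m x = 1 → x = 1 ∨ x = (⟨z, s.zA⟩, ⟨z, s.zB⟩) := by
    rintro ⟨a, b⟩ hab
    have hab' : (a : E) * b = 1 := hab
    have hb : (b : E) = (a : E)⁻¹ := eq_inv_of_mul_eq_one_right hab'
    rcases s.inter h a.2 (hb ▸ b.2 |> fun hh => by simpa using B.inv_mem hh) with e | e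
    · left; ext <;> simp [e, hb]
    · right; ext <;> simp [e, hb, inv_eq_of_mul_eq_one_right h.zz]
  have hk : ∀ n ∈ f.ker, χ' n = χ' 1 := by
    intro n hn
    have hn' : f n = 1 := hn
    have hr : n.right = 1 := by simpa [f] using congrArg SemidirectProduct.right hn'
    have hl : m n.left = 1 := by simpa [f] using congrArg SemidirectProduct.left hn'
    have hn2 : n = SemidirectProduct.inl n.left := by ext <;> simp [hr]
    rw [hn2]
    rcases hmk _ hl with e | e <;> rw [e]
    · rw [map_one]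
    · simp only [hχ', Pi.mul_apply, map_one, f1, f2, SemidirectProduct.map_inl]
      exact (congrArg₂ (· * ·) hAz hBz).trans (neg_mul_neg _ _)
  obtain ⟨χq, hq, he⟩ := exists_quotient_char f.ker hc' hk
  let eq := QuotientGroup.quotientKerEquivOfSurjective f hf
  refine ⟨fun g => χq (eq.symm g), isCharacter_comp hq eq.symm.toMonoidHom, ?_⟩
  have hval : ∀ x, χq (eq.symm (f x)) = χ' x := fun x => by
    rw [congrFun he x]
    congr 1
    exact eq.symm_apply_eq.mpr rfl
  have h1 : χq (eq.symm 1) = χA 1 * χB 1 := by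
    rw [← map_one f, hval]
    simp [hχ']
  have hform : ∀ (a : A) (b : B) (p : P), χq (eq.symm ⟨(a : E) * b, p⟩) = χA ⟨a, p⟩ * χB ⟨b, p⟩ := fun a b p => by
    have : f ⟨(a, b), p⟩ = ⟨(a : E) * b, p⟩ := by ext <;> simp [f, m, MonoidHom.noncommCoprod]
    rw [← this, hval]
    have e1 : f1 ⟨(a, b), p⟩ = ⟨a, p⟩ := by ext <;> simp [f1]
    have e2 : f2 ⟨(a, b), p⟩ = ⟨b, p⟩ := by ext <;> simp [f2]
    simp only [hχ', Pi.mul_apply, e1, e2]
  refine ⟨?_, ?_, hform⟩
  · have e : (SemidirectProduct.inl z : E ⋊[φ] P) = ⟨((⟨z, s.zA⟩ : A) : E) * ((1 : B) : E), 1⟩ := by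
      ext <;> simp
    show χq (eq.symm _) = -χq (eq.symm 1)
    rw [e, hform, h1]
    exact (congrArg (· * χB 1) hAz).trans (neg_mul _ _)
  · show 2 * χq (eq.symm 1) ^ 2 = _
    rw [h1]
    have hcard : Nat.card A * Nat.card B = Nat.card E * 2 := by
      rw [← Nat.card_prod, Subgroup.card_eq_card_quotient_mul_card_subgroup m.ker,
        Nat.card_congr (QuotientGroup.quotientKerEquivOfSurjective m hm).toEquiv]
      congr 1
      have hne : (1 : A × B) ≠ (⟨z, s.zA⟩, ⟨z, s.zB⟩) := fun e =>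
        h.ne (congrArg (fun x : A × B => (x.1 : E)) e).symm
      rw [← Set.ncard_coe_finset {(1 : A × B), (⟨z, s.zA⟩, ⟨z, s.zB⟩)} |>.trans (Finset.card_pair hne),
        ← Nat.card_coe_set_eq]
      refine Nat.card_congr (Equiv.setCongr ?_)
      ext x
      simp only [Finset.coe_insert, Finset.coe_singleton, Set.mem_insert_iff, Set.mem_singleton_iff, SetLike.mem_coe,
        MonoidHom.mem_ker]
      refine ⟨hmk x, ?_⟩
      rintro (rfl | rfl)
      · exact map_one m
      · exact h.zz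
    have hc : (Nat.card A : ℂ) * Nat.card B = Nat.card E * 2 := by exact_mod_cast hcard
    rw [← hAd, ← hBd] at hc
    linear_combination hc / 2

/-! ### Fixed points modulo the centre -/

theorem fixed_of_mod (h : Ext2 E z) {α : MulAut E} (hα : Odd (orderOf α)) {u : E}
    (hu : α u = u ∨ α u = z * u) : α u = u := by
  rcases hu with e | e
  · exact e
  · exfalso
    obtain ⟨k, hk⟩ := hα
    have hodd : ∀ k, (α ^ (2 * k + 1)) u = z * u := fun k => by
      induction k with
      | zero => simpa using e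
      | succ k ih =>
        rw [show 2 * (k + 1) + 1 = 1 + 1 + (2 * k + 1) by ring, pow_add, MulAut.mul_apply, ih, pow_add, pow_one,
          MulAut.mul_apply, map_mul, aut_fix_z h, e, ← mul_assoc, h.zz, one_mul, e]
    have h1 := hodd k
    rw [← hk, pow_orderOf_eq_one, MulAut.one_apply] at h1
    exact h.ne (mul_eq_right.mp h1.symm)

/-- The centre quotient with the induced automorphisms. -/
noncomputable def qAut : MulAut E →* MulAut (E ⧸ Subgroup.center E) where
  toFun α := QuotientGroup.congr _ _ α (by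
    refine le_antisymm ?_ fun x hx => ⟨α.symm x, Subgroup.mem_center_iff.mpr fun g => α.injective ?_, ?_⟩
    · rintro _ ⟨x, hx, rfl⟩
      refine Subgroup.mem_center_iff.mpr fun g => ?_
      obtain ⟨g, rfl⟩ := α.surjective g
      show α g * α x = α x * α g
      rw [← map_mul, ← map_mul, Subgroup.mem_center_iff.mp hx g]
    · rw [map_mul, map_mul, α.apply_symm_apply]
      exact Subgroup.mem_center_iff.mp hx _
    · exact α.apply_symm_apply x)
  map_one' := by
    ext q
    obtain ⟨x, rfl⟩ := QuotientGroup.mk_surjective q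
    rfl
  map_mul' α β := by
    ext q
    obtain ⟨x, rfl⟩ := QuotientGroup.mk_surjective q
    rfl

theorem qAut_mk (α : MulAut E) (x : E) : qAut α (x : E ⧸ Subgroup.center E) = ((α x : E) : E ⧸ Subgroup.center E) := rfl

theorem mk_eq_iff (h : Ext2 E z) {x y : E} :
    (x : E ⧸ Subgroup.center E) = y ↔ x = y ∨ x = z * y := by
  rw [QuotientGroup.eq, h.center_iff]
  constructor
  · rintro (e | e)
    · exact Or.inl (inv_mul_eq_one.mp e)
    · right
      rw [inv_mul_eq_iff_eq_mul.mp e, ← mul_assoc, (h.z_comm x).symm.eq, mul_assoc, h.zz, mul_one]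
  · rintro (rfl | rfl)
    · exact Or.inl (inv_mul_cancel _)
    · right
      rw [mul_inv_rev, inv_eq_of_mul_eq_one_right h.zz, mul_assoc, (h.z_comm y).symm.eq, ← mul_assoc,
        inv_mul_cancel, one_mul]

theorem quot_comm (h : Ext2 E z) (x y : E ⧸ Subgroup.center E) : x * y = y * x := by
  obtain ⟨a, rfl⟩ := QuotientGroup.mk_surjective x
  obtain ⟨b, rfl⟩ := QuotientGroup.mk_surjective y
  rw [← QuotientGroup.mk_mul, ← QuotientGroup.mk_mul, mk_eq_iff h]
  rcases h.comm_cases a b with e | e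
  · exact Or.inl (commutatorElement_eq_one_iff_mul_comm.mp e)
  · refine Or.inr ?_
    rw [← e, commutatorElement_def]; group

theorem quot_sq (h : Ext2 E z) (x : E ⧸ Subgroup.center E) : x * x = 1 := by
  obtain ⟨a, rfl⟩ := QuotientGroup.mk_surjective x
  rw [← QuotientGroup.mk_mul, ← QuotientGroup.mk_one, mk_eq_iff h, mul_one]
  exact h.sq a

theorem quot_pow_odd (h : Ext2 E z) (x : E ⧸ Subgroup.center E) {n : ℕ} (hn : Odd n) : x ^ n = x := by
  obtain ⟨k, rfl⟩ := hn
  rw [pow_succ, pow_mul, sq, quot_sq h, one_pow, one_mul]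

theorem lift_fixed (h : Ext2 E z) {α : MulAut E} (hα : Odd (orderOf α)) {x : E}
    (hx : qAut α (x : E ⧸ Subgroup.center E) = x) : α x = x :=
  fixed_of_mod h hα ((mk_eq_iff h).mp (by rwa [qAut_mk] at hx))

/-- The common fixed points of a group of automorphisms. -/
def fixedSub (T : Subgroup (MulAut E)) : Subgroup E where
  carrier := {e | ∀ t ∈ T, t e = e}
  one_mem' := fun t _ => map_one t
  mul_mem' := fun ha hb t ht => by rw [map_mul, ha t ht, hb t ht]
  inv_mem' := fun ha t ht => by rw [map_inv, ha t ht]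

theorem mem_fixedSub {T : Subgroup (MulAut E)} {e : E} : e ∈ fixedSub T ↔ ∀ t ∈ T, t e = e := Iff.rfl

theorem z_mem_fixedSub (h : Ext2 E z) (T : Subgroup (MulAut E)) : z ∈ fixedSub T := fun t _ => aut_fix_z h t

/-- An element fixed by `T` commutes with an invariant subgroup once it commutes with the fixed points there. -/
theorem comm_of_fixed (h : Ext2 E z) {T : Subgroup (MulAut E)} (hT : Odd (Nat.card T)) {W : Subgroup E}
    (hW : ∀ t ∈ T, ∀ w ∈ W, t w ∈ W) {u : E} (hu : u ∈ fixedSub T)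
    (hfix : ∀ w ∈ W, w ∈ fixedSub T → Commute u w) {v : E} (hv : v ∈ W) : Commute u v := by
  classical
  haveI : Finite (MulAut E) := Finite.of_injective (fun α : MulAut E => (α : E → E)) DFunLike.coe_injective
  haveI := Fintype.ofFinite T
  let Z := Subgroup.center E
  letI : CommGroup (E ⧸ Z) := { (inferInstance : Group (E ⧸ Z)) with mul_comm := quot_comm h }
  let K : Subgroup (E ⧸ Z) := (Subgroup.centralizer ({u} : Set E)).map (QuotientGroup.mk' Z)
  let Wq : Subgroup (E ⧸ Z) := W.map (QuotientGroup.mk' Z)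
  have hsgn : ∀ t ∈ T, (t v * v⁻¹) * u = u * (t v * v⁻¹) := fun t ht => by
    rw [h.mul_comm_iff]
    have h1 : v⁻¹ * u = u * v⁻¹ ↔ v * u = u * v := by
      show Commute v⁻¹ u ↔ Commute v u
      exact Commute.inv_left_iff
    rw [h1]
    conv_lhs => rw [← hu t ht, ← map_mul, ← map_mul, t.apply_eq_iff_eq]
  have hquot : ∀ t : T, qAut (t : MulAut E) (v : E ⧸ Z) * (v : E ⧸ Z)⁻¹ ∈ K := fun t =>
    ⟨(t : MulAut E) v * v⁻¹, Subgroup.mem_centralizer_singleton_iff.mpr (hsgn t t.2), rfl⟩
  set N : E ⧸ Z := ∏ t : T, qAut (t : MulAut E) (v : E ⧸ Z) with hN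
  have hNW : N ∈ Wq := Subgroup.prod_mem _ fun t _ => ⟨(t : MulAut E) v, hW t t.2 v hv, rfl⟩
  obtain ⟨w, hw, hwN⟩ := hNW
  have hwfix : w ∈ fixedSub T := fun t ht => by
    refine lift_fixed h ?_ ?_
    · exact hT.of_dvd_nat (Subgroup.orderOf_dvd_natCard T ht)
    · rw [show (w : E ⧸ Z) = N from hwN, hN, map_prod]
      exact Fintype.prod_equiv (Equiv.mulLeft (⟨t, ht⟩ : T)) _ _ fun x => by simp
  have hNK : N ∈ K := hwN ▸ ⟨w, Subgroup.mem_centralizer_singleton_iff.mpr (hfix w hw hwfix).symm.eq, rfl⟩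
  have h2 : (v : E ⧸ Z) ^ Nat.card T ∈ K := by
    have : (v : E ⧸ Z) ^ Nat.card T = N * (∏ t : T, qAut (t : MulAut E) (v : E ⧸ Z) * (v : E ⧸ Z)⁻¹)⁻¹ := by
      rw [Finset.prod_mul_distrib, ← hN, Finset.prod_const, Finset.card_univ, ← Nat.card_eq_fintype_card, inv_pow,
        mul_inv_rev, inv_inv, mul_comm (v ^ Nat.card T : E ⧸ Z), mul_inv_cancel_left]
    rw [this]
    exact K.mul_mem hNK (K.inv_mem (K.prod_mem fun t _ => hquot t))
  rw [quot_pow_odd h _ hT] at h2
  obtain ⟨c, hc, hcv⟩ := h2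
  have hc' : Commute c u := Subgroup.mem_centralizer_singleton_iff.mp hc
  rcases (mk_eq_iff h).mp hcv.symm with e | e <;> rw [e]
  · exact hc'.symm
  · exact ((h.z_comm u).mul_right hc'.symm)

end CfsgLib.ExtraTwoExt
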